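import Groth.Agent.EtMVLib.PullSec
import Groth.Agent.EtMVLib.HpullApply
import Groth.Agent.EtMVLib.ExtTools
import Groth.Agent.EtFound.PullStalk

/-!
# Pullback on etale cohomology: naturality, connecting maps, composition
-/

set_option autoImplicit false

universe u

open CategoryTheory CategoryTheory.Limits AlgebraicGeometry Opposite CategoryTheory.Abelian

namespace Groth.Agent.EtBCA

set_option backward.isDefEq.respectTransparency.types false

variable {X Y Z : Scheme.{u}}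

/-- exactness of inverse image, as an instance source -/
theorem pullExact (f : X ⟶ Y) : PreservesFiniteLimits (EtCoh.pull f) :=
  EtFound.pull_preservesFiniteLimits f

theorem HF_map_apply {F G : EtCoh.Ab X} (φ : F ⟶ G) (n : ℕ) (x : EtCoh.H X F n) :
    (EtCoh.HF X n).map φ x = x.comp (Ext.mk₀ φ) (add_zero n) := rfl

theorem HF_map_bijective {F G : EtCoh.Ab X} (φ : F ⟶ G) [IsIso φ] (n : ℕ) :
    Function.Bijective ((EtCoh.HF X n).map φ) :=
  (ConcreteCategory.isIso_iff_bijective _).1 inferInstance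

theorem Hpull_natural (f : X ⟶ Y) [PreservesFiniteLimits (EtCoh.pull f)] {G G' : EtCoh.Ab Y} (φ : G ⟶ G')
    (n : ℕ) (x : EtCoh.H Y G n) :
    EtCore.Hpull f G' n ((EtCoh.HF Y n).map φ x) =
      (EtCoh.HF X n).map ((EtCoh.pull f).map φ) (EtCore.Hpull f G n x) := by
  rw [HF_map_apply, HF_map_apply, EtMVLib.Hpull_apply, EtMVLib.Hpull_apply, Ext.mapExactFunctor_comp,
    Ext.mapExactFunctor_mk₀, Ext.comp_assoc_of_third_deg_zero]

theorem Hpull_extClass (f : X ⟶ Y) [PreservesFiniteLimits (EtCoh.pull f)] {S : ShortComplex (EtCoh.Ab Y)}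
    (hS : S.ShortExact) (n : ℕ) (x : EtCoh.H Y S.X₃ n) :
    EtCore.Hpull f S.X₁ (n + 1) (x.comp hS.extClass rfl) =
      (EtCore.Hpull f S.X₃ n x).comp (hS.map_of_exact (EtCoh.pull f)).extClass rfl := by
  rw [EtMVLib.Hpull_apply, EtMVLib.Hpull_apply, Ext.mapExactFunctor_comp, Ext.mapExactFunctor_extClass]
  exact (Ext.comp_assoc _ _ _ (zero_add n) rfl (by omega)).symm

theorem pullConst_comp (k : X ⟶ Y) (t : Y ⟶ Z) (M : Type) [AddCommGroup M] :
    (EtCore.pullConst (k ≫ t) M).inv ≫ (EtCore.pullComp k t).hom.app (EtCoh.const Z M) =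
      (EtCore.pullConst k M).inv ≫ (EtCoh.pull k).map (EtCore.pullConst t M).inv := by
  apply ((EtCore.constAdj X).homEquiv (AddCommGrpCat.of (ULift.{u + 1} M)) _).injective
  refine ((EtCore.constAdj X).homEquiv_naturality_right _ _).trans
    (Eq.trans ?_ ((EtCore.constAdj X).homEquiv_naturality_right _ _).symm)
  refine (congrArg (· ≫ _) (EtMVLib.homEquiv_pullConst_inv (k ≫ t) M)).trans
    (Eq.trans ?_ (congrArg (· ≫ _) (EtMVLib.homEquiv_pullConst_inv k M)).symm)
  refine ((Category.assoc _ _ _).trans (congrArg (_ ≫ ·) (EtMVLib.pullSec_comp k t (EtCoh.const Z M)))).trans ?_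
  refine Eq.trans ?_ ((Category.assoc _ _ _).trans
    (congrArg (_ ≫ ·) ((EtMVLib.pullSec k).naturality (EtCore.pullConst t M).inv).symm)).symm
  refine ((Category.assoc _ _ _).symm.trans ?_).trans (Category.assoc _ _ _)
  refine congrArg (· ≫ _) ((EtMVLib.homEquiv_pullConst_inv t M).symm.trans ?_)
  exact Adjunction.homEquiv_unit _ _ _ _

/-- pullback on cohomology along a composite -/
theorem Hpull_comp (k : X ⟶ Y) (t : Y ⟶ Z) [PreservesFiniteLimits (EtCoh.pull k)]
    [PreservesFiniteLimits (EtCoh.pull t)] [PreservesFiniteLimits (EtCoh.pull (k ≫ t))]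
    (G : EtCoh.Ab Z) (n : ℕ) (x : EtCoh.H Z G n) :
    (EtCoh.HF X n).map ((EtCore.pullComp k t).hom.app G) (EtCore.Hpull (k ≫ t) G n x) =
      EtCore.Hpull k ((EtCoh.pull t).obj G) n (EtCore.Hpull t G n x) := by
  have : PreservesFiniteLimits (EtCoh.pull t ⋙ EtCoh.pull k) := inferInstance
  rw [HF_map_apply, EtMVLib.Hpull_apply, EtMVLib.Hpull_apply, EtMVLib.Hpull_apply,
    Ext.comp_assoc_of_third_deg_zero, EtMVLib.mapExactFunctor_natTrans _ _ (EtCore.pullComp k t).hom,
    EtMVLib.mapExactFunctor_functorComp, Ext.mk₀_comp_mk₀_assoc, Ext.mapExactFunctor_comp,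
    Ext.mapExactFunctor_mk₀, Ext.mk₀_comp_mk₀_assoc]
  exact congrArg (fun m => (Ext.mk₀ m).comp _ (zero_add n)) (pullConst_comp k t ℤ)

/-- `Hpull` of a composite, as a composite of the pullbacks -/
theorem Hpull_comp' (k : X ⟶ Y) (t : Y ⟶ Z) [PreservesFiniteLimits (EtCoh.pull k)]
    [PreservesFiniteLimits (EtCoh.pull t)] [PreservesFiniteLimits (EtCoh.pull (k ≫ t))]
    (G : EtCoh.Ab Z) (n : ℕ) :
    ⇑((EtCoh.HF X n).map ((EtCore.pullComp k t).hom.app G)) ∘ ⇑(EtCore.Hpull (k ≫ t) G n) =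
      ⇑(EtCore.Hpull k ((EtCoh.pull t).obj G) n) ∘ ⇑(EtCore.Hpull t G n) :=
  funext fun x => Hpull_comp k t G n x

theorem HpullVia_eq (k : X ⟶ Y) (t : Y ⟶ Z) (f₀ : X ⟶ Z) (w : k ≫ t = f₀)
    [PreservesFiniteLimits (EtCoh.pull k)] [PreservesFiniteLimits (EtCoh.pull t)]
    [PreservesFiniteLimits (EtCoh.pull f₀)]
    (G : EtCoh.Ab Z) (n : ℕ) (x : EtCoh.H Z G n) :
    EtCore.HpullVia k t f₀ w G n (EtCore.Hpull t G n x) = EtCore.Hpull f₀ G n x := by
  subst w
  refine (congrArg ((EtCoh.HF X n).map (((EtCore.pullComp k t).symm ≪≫ EtCore.pullCongr rfl).app G).hom)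
    (Hpull_comp k t G n x).symm).trans ?_
  have e : (EtCore.pullComp k t).hom.app G ≫
      (((EtCore.pullComp k t).symm ≪≫ EtCore.pullCongr rfl).app G).hom = 𝟙 _ := by
    simp [EtCore.pullCongr]
  rw [← ConcreteCategory.comp_apply, ← Functor.map_comp, e, CategoryTheory.Functor.map_id]
  rfl

end Groth.Agent.EtBCA
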