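import Groth.Agent.EtBCA.Hpull
import Groth.Agent.S8525

/-!
# Torsion sheaves under inverse images
-/

set_option autoImplicit false

universe u

open CategoryTheory CategoryTheory.Limits AlgebraicGeometry Opposite

namespace Groth.Agent.EtBCA

set_option backward.isDefEq.respectTransparency.types false

variable {X Y : Scheme.{u}} {L : Set ℕ}

theorem isLTorsion_pull (f : X ⟶ Y) {F : EtCoh.Ab Y} (hF : EtAcyc.IsLTorsion L F) :
    EtAcyc.IsLTorsion L ((EtCoh.pull f).obj F) := by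
  rw [S8525.result] at hF ⊢
  intro Ω _ _ ξ t
  let e := ((EtFound.stalkPullIso f ξ).app F).addCommGroupIsoToAddEquiv
  obtain ⟨m, hm, h0⟩ := hF Ω (ξ ≫ f) (e t)
  refine ⟨m, hm, e.injective ?_⟩
  rw [map_nsmul, map_zero]
  exact h0

theorem isLTorsion_of_mono {F G : EtCoh.Ab X} (φ : F ⟶ G) [Mono φ] (hG : EtAcyc.IsLTorsion L G) :
    EtAcyc.IsLTorsion L F := by
  rw [S8525.result] at hG ⊢
  intro Ω _ _ ξ t
  obtain ⟨m, hm, h0⟩ := hG Ω ξ ((EtCoh.stalk ξ).map φ t)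
  refine ⟨m, hm, (EtFound.mono_iff_stalks φ).1 inferInstance Ω ξ ?_⟩
  rw [map_nsmul, map_zero]
  exact h0

theorem isLTorsion_of_epi {F G : EtCoh.Ab X} (φ : F ⟶ G) [Epi φ] (hF : EtAcyc.IsLTorsion L F) :
    EtAcyc.IsLTorsion L G := by
  rw [S8525.result] at hF ⊢
  intro Ω _ _ ξ t
  obtain ⟨s, rfl⟩ := (EtFound.epi_iff_stalks φ).1 inferInstance Ω ξ t
  obtain ⟨m, hm, h0⟩ := hF Ω ξ s
  refine ⟨m, hm, ?_⟩
  rw [← map_nsmul, h0, map_zero]

theorem isLTorsion_of_iso {F G : EtCoh.Ab X} (e : F ≅ G) (hF : EtAcyc.IsLTorsion L F) :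
    EtAcyc.IsLTorsion L G := isLTorsion_of_epi e.hom hF

end Groth.Agent.EtBCA
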