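import Groth.Agent.EtBCA.Efface

/-!
# Higher direct images of torsion sheaves along qcqs morphisms are torsion
-/

set_option autoImplicit false
set_option linter.style.haveILetI false

universe u

open CategoryTheory CategoryTheory.Limits AlgebraicGeometry Opposite

namespace Groth.Agent.EtBCA

set_option backward.isDefEq.respectTransparency.types false

variable {X Y : Scheme.{u}} {L : Set ℕ}

theorem primesIn_mul {a b : ℕ} (ha : EtAcyc.PrimesIn L a) (hb : EtAcyc.PrimesIn L b) :
    EtAcyc.PrimesIn L (a * b) :=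
  ⟨Nat.mul_pos ha.1 hb.1, fun p hp h => (hp.dvd_mul.1 h).elim (ha.2 p hp) (hb.2 p hp)⟩

theorem primesIn_one : EtAcyc.PrimesIn L 1 :=
  ⟨one_pos, fun _ hp h => absurd (Nat.le_of_dvd one_pos h) (not_le.2 hp.one_lt)⟩

theorem primesIn_prod {ι : Type*} (t : Finset ι) (m : ι → ℕ) (h : ∀ i ∈ t, EtAcyc.PrimesIn L (m i)) :
    EtAcyc.PrimesIn L (∏ i ∈ t, m i) :=
  Finset.prod_induction _ _ (fun _ _ => primesIn_mul) primesIn_one h

/-- on a quasi-compact object a torsion section is killed by one integer -/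
theorem exists_nsmul_eq_zero {F : EtCoh.Ab X} (hF : EtAcyc.IsLTorsion L F) (U : X.Etale)
    [CompactSpace ↥U.left] (s : EtCoh.sect F U) : ∃ m, EtAcyc.PrimesIn L m ∧ m • s = 0 := by
  choose V g m hg hm h0 using hF U s
  have hopen : ∀ x, IsOpen (Set.range (g x).left.base) := fun x => by
    have : AlgebraicGeometry.Etale (g x).left := EtFound.etale_left (g x)
    exact (g x).left.isOpenMap.isOpen_range
  obtain ⟨t, ht⟩ := isCompact_univ.elim_finite_subcover _ hopen
    fun x _ => Set.mem_iUnion.2 ⟨x, hg x⟩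
  refine ⟨∏ x ∈ t, m x, primesIn_prod t m fun x _ => hm x, ?_⟩
  have hs : Presheaf.IsSheaf X.smallEtaleTopology F.obj := F.property
  let S := Presheaf.equalizerSieve (F := F.obj) ((∏ x ∈ t, m x) • s) (0 : EtCoh.sect F U)
  have hS : S ∈ X.smallEtaleTopology _ := by
    refine (EtFound.mem_topology_iff _).2 fun v => ?_
    obtain ⟨x, hx, hv⟩ : ∃ x ∈ t, v ∈ Set.range (g x).left.base := by simpa using ht (Set.mem_univ v)
    obtain ⟨w, hw⟩ := hv
    refine ⟨V x, g x, w, ?_, hw⟩
    show F.obj.map (g x).op _ = F.obj.map (g x).op _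
    obtain ⟨c, hc⟩ := Finset.dvd_prod_of_mem m hx
    rw [map_zero, map_nsmul, hc, mul_comm, mul_nsmul', h0 x, smul_zero]
  exact (((isSheaf_iff_isSheaf_of_type _ _).1
    ((sheafCompose X.smallEtaleTopology (forget AddCommGrpCat.{u + 1})).obj F).property).isSeparated
    _ hS).ext fun V g hg => hg

theorem isLTorsion_push (f : X ⟶ Y) [QuasiCompact f] [QuasiSeparated f] {F : EtCoh.Ab X}
    (hF : EtAcyc.IsLTorsion L F) : EtAcyc.IsLTorsion L ((EtCoh.push f).obj F) := by
  intro U s x
  obtain ⟨W, hW, hx, -⟩ := exists_isAffineOpen_mem_and_subset (x := x) (U := ⊤) trivial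
  let V : Y.Etale :=
    haveI : AlgebraicGeometry.Etale U.hom := U.prop
    Scheme.Etale.mk (W.ι ≫ U.hom)
  let g : V ⟶ U := MorphismProperty.Over.homMk W.ι rfl
  haveI : IsAffine V.left := hW
  haveI : CompactSpace ↥((EtCoh.bc f).obj V).left := (isQcqsObj_bc f V).1
  obtain ⟨m, hm, h0⟩ := exists_nsmul_eq_zero hF ((EtCoh.bc f).obj V)
    (((EtCoh.push f).obj F).obj.map g.op s)
  exact ⟨V, g, m, ⟨⟨x, hx⟩, rfl⟩, hm, h0⟩

theorem isLTorsion_Rpush (f : X ⟶ Y) [QuasiCompact f] [QuasiSeparated f] :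
    ∀ (q : ℕ) (F : EtCoh.Ab X), EtAcyc.IsLTorsion L F →
      EtAcyc.IsLTorsion L ((EtCoh.Rpush f q).obj F) := by
  intro q
  induction q with
  | zero =>
    intro F hF
    exact isLTorsion_of_iso ((EtCoh.push f).rightDerivedZeroIsoSelf.app F).symm (isLTorsion_push f hF)
  | succ q ih =>
    intro F hF
    obtain ⟨I, u, hu, hI, hIa⟩ := exists_efface (L := L) F hF
    let S := ShortComplex.mk u (cokernel.π u) (cokernel.condition u)
    have hS : S.ShortExact := { exact := ShortComplex.exact_of_g_is_cokernel _ (cokernelIsCokernel _) }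
    let := HasDerivedCategory.standard (EtCoh.Ab X)
    let := HasDerivedCategory.standard (EtCoh.Ab Y)
    obtain ⟨δ, w₁, w₂, w₃, -, -, e₃⟩ := TriCat.exists_rightDerived_ses (EtCoh.push f) hS q
    have : Epi δ := e₃.epi_f ((isRightAcyclic_push f hIa (q + 1) (by omega)).eq_of_tgt _ _)
    exact isLTorsion_of_epi δ (ih _ (isLTorsion_of_epi (cokernel.π u) hI))

end Groth.Agent.EtBCA
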