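import Groth.Agent.EtBCA.QcAcyclic

/-!
# Inverse image along an identity
-/

set_option autoImplicit false
set_option linter.style.haveILetI false

universe u

open CategoryTheory CategoryTheory.Limits AlgebraicGeometry Opposite

namespace Groth.Agent.EtBCA

set_option backward.isDefEq.respectTransparency.types false

variable (X : Scheme.{u})

/-- base change along the identity -/
noncomputable def bcIdIso : EtCoh.bc (𝟙 X) ≅ 𝟭 X.Etale :=
  NatIso.ofComponents
    (fun V => MorphismProperty.Over.isoMk
      (@asIso _ _ _ _ (pullback.fst (V.hom : V.left ⟶ X) (𝟙 X))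
        (IsPullback.of_hasPullback (V.hom : V.left ⟶ X) (𝟙 X)).isIso_fst_of_isIso)
      (by exact pullback.condition.trans (Category.comp_id _)))
    (fun g => MorphismProperty.Over.Hom.ext (by exact pullback.lift_fst _ _ _))

/-- inverse image along the identity -/
noncomputable def pullIdIso : EtCoh.pull (𝟙 X) ≅ 𝟭 (EtCoh.Ab X) :=
  (EtCoh.pullPushAdj (𝟙 X)).leftAdjointIdIso
    (Functor.sheafPushforwardContinuousId' (bcIdIso X) AddCommGrpCat.{u + 1} X.smallEtaleTopology)

variable {X}

theorem subsingleton_H_of_qcAcyclic [CompactSpace X] [QuasiSeparatedSpace X] {F : EtCoh.Ab X}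
    (h : QcAcyclic F) (q : ℕ) (hq : 0 < q) : Subsingleton (EtCoh.H X F q) := by
  have : Subsingleton ↑((EtCoh.HF X q).obj ((EtCoh.pull (𝟙 X)).obj F)) :=
    qcAcyclic_subsingleton_H h q hq
  exact ((EtCoh.HF X q).mapIso ((pullIdIso X).app F).symm).addCommGroupIsoToAddEquiv.toEquiv.subsingleton

end Groth.Agent.EtBCA
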