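import Groth.Agent.BigSiteLib.FlasquePush
import Groth.Agent.EtLC12.QcqsAcyclic
import Groth.Agent.TriCat.AcyclicObj

/-!
# Sheaves without higher cohomology on quasi-compact quasi-separated etale schemes

They are closed under filtered colimits and acyclic for direct image along qcqs morphisms.
-/

set_option autoImplicit false
set_option linter.style.haveILetI false

universe u

open CategoryTheory CategoryTheory.Limits AlgebraicGeometry Opposite

namespace Groth.Agent.EtBCA

set_option backward.isDefEq.respectTransparency.types false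

variable {X Y : Scheme.{u}}

/-- no higher cohomology on every qcqs etale scheme -/
def QcAcyclic (F : EtCoh.Ab X) : Prop :=
  ∀ (W : X.Etale), EtFound.IsQcqsObj W → ∀ q : ℕ, 0 < q →
    Subsingleton (EtCoh.H W.left ((EtCoh.pull W.hom).obj F) q)

theorem qcAcyclic_of_flabby {F : EtCoh.Ab X} (h : BigSiteLib.Flabby F) : QcAcyclic F :=
  fun W _ q hq => h W q hq

theorem qcAcyclic_X₃ {E : ShortComplex (EtCoh.Ab X)} (hE : E.ShortExact) (h₁ : QcAcyclic E.X₁)
    (h₂ : QcAcyclic E.X₂) : QcAcyclic E.X₃ := fun W hW q hq => by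
  have : AlgebraicGeometry.Etale W.hom := W.prop
  have := EtFound.jCont W.hom
  have hE' : (E.map (EtCoh.pull W.hom)).ShortExact :=
    EtLC12.AffineLocalAcyclic.shortExact_pull (W.hom : W.left ⟶ X) hE
  obtain ⟨n, rfl⟩ : ∃ n, q = n + 1 := ⟨q - 1, by omega⟩
  have : Subsingleton (Sheaf.H (E.map (EtCoh.pull W.hom)).X₂ (n + 1)) := h₂ W hW _ (by omega)
  have : Subsingleton (Sheaf.H (E.map (EtCoh.pull W.hom)).X₂ (n + 1 + 1)) := h₂ W hW _ (by omega)
  have : Subsingleton (Sheaf.H (E.map (EtCoh.pull W.hom)).X₁ (n + 1 + 1)) := h₁ W hW _ (by omega)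
  obtain ⟨e⟩ := Adeq2Lib.ZarCmp.shift _ hE' n
  exact e.toEquiv.subsingleton

theorem qcAcyclic_colimit {Λ : Type (u + 1)} [SmallCategory Λ] [IsFiltered Λ] (D : Λ ⥤ EtCoh.Ab X)
    (h : ∀ i, QcAcyclic (D.obj i)) : QcAcyclic (colimit D) := fun W hW q hq => by
  have := hW.1
  have := hW.2
  have := EtLC12.QcqsAcyclic.preservesColimitsOfShape_HF W.left q Λ
  have : (EtCoh.pull W.hom).IsLeftAdjoint := (EtCoh.pullPushAdj W.hom).isLeftAdjoint
  have hc := isColimitOfPreserves (EtCoh.pull W.hom ⋙ EtCoh.HF W.left q) (colimit.isColimit D)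
  refine subsingleton_of_forall_eq 0 fun x => ?_
  obtain ⟨i, y, hy⟩ := Concrete.isColimit_exists_rep _ hc x
  refine hy.symm.trans ((congrArg _ (?_ : y = 0)).trans (map_zero _))
  exact @Subsingleton.elim _ (h i W hW q hq) _ _

theorem qcAcyclic_subsingleton_H [CompactSpace X] [QuasiSeparatedSpace X] {F : EtCoh.Ab X}
    (h : QcAcyclic F) (q : ℕ) (hq : 0 < q) :
    Subsingleton (EtCoh.H X ((EtCoh.pull (𝟙 X)).obj F) q) :=
  h (EtCoh.top X) ⟨inferInstanceAs (CompactSpace X), inferInstanceAs (QuasiSeparatedSpace X)⟩ q hq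

theorem qcAcyclic_injective (I : EtCoh.Ab X) [Injective I] : QcAcyclic I :=
  qcAcyclic_of_flabby (BigSiteLib.flabby_injective I)

theorem isQcqsObj_bc (f : X ⟶ Y) [QuasiCompact f] [QuasiSeparated f] (V : Y.Etale) [IsAffine V.left] :
    EtFound.IsQcqsObj ((EtCoh.bc f).obj V) := by
  have : CompactSpace ↥((𝟭 Scheme).obj V.left) := inferInstanceAs (CompactSpace ↥V.left)
  have : QuasiSeparatedSpace ↥((𝟭 Scheme).obj V.left) := inferInstanceAs (QuasiSeparatedSpace ↥V.left)
  show CompactSpace ↥(pullback V.hom f) ∧ QuasiSeparatedSpace ↥(pullback V.hom f)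
  exact ⟨QuasiCompact.compactSpace_of_compactSpace (pullback.fst V.hom f),
    quasiSeparatedSpace_of_quasiSeparated (pullback.fst V.hom f)⟩

/-- sections over affine etale schemes lift, hence direct image keeps these sequences exact -/
theorem shortExact_push_of_qcAcyclic (f : X ⟶ Y) [QuasiCompact f] [QuasiSeparated f]
    {E : ShortComplex (EtCoh.Ab X)} (hE : E.ShortExact) [Injective E.X₂] (h₁ : QcAcyclic E.X₁) :
    (E.map (EtCoh.push f)).ShortExact := by
  have := (EtCoh.pullPushAdj f).rightAdjoint_preservesLimits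
  have := hE.mono_f
  have hepi : Epi ((EtCoh.push f).map E.g) := by
    refine (Sheaf.isLocallySurjective_iff_epi' _ _).1 ⟨fun {V} s => (EtFound.mem_topology_iff _).2 fun v => ?_⟩
    obtain ⟨U, hU, hv, -⟩ := exists_isAffineOpen_mem_and_subset (x := v) (U := ⊤) trivial
    let V' : Y.Etale :=
      have : AlgebraicGeometry.Etale V.hom := V.prop
      Scheme.Etale.mk (U.ι ≫ V.hom)
    let g : V' ⟶ V := MorphismProperty.Over.homMk U.ι rfl
    have : IsAffine V'.left := hU
    refine ⟨V', g, ⟨v, hv⟩, ?_, rfl⟩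
    obtain ⟨b, hb⟩ := BigSiteLib.sections_surjective_of_H hE inferInstance ((EtCoh.bc f).obj V')
      (h₁ _ (isQcqsObj_bc f V') 1 one_pos) (((EtCoh.push f).obj E.X₃).obj.map g.op s)
    exact ⟨b, hb⟩
  exact { exact := hE.exact.map_of_mono_of_preservesKernel _ hE.mono_f inferInstance
          mono_f := inferInstanceAs (Mono ((EtCoh.push f).map E.f))
          epi_g := hepi }

theorem isZero_Rpush_succ (f : X ⟶ Y) [QuasiCompact f] [QuasiSeparated f] :
    ∀ (n : ℕ) (F : EtCoh.Ab X), QcAcyclic F → IsZero ((EtCoh.Rpush f (n + 1)).obj F) := by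
  intro n
  induction n with
  | zero =>
    intro F hF
    let Q := Classical.arbitrary (InjectivePresentation F)
    have hE := Q.shortExact_shortComplex
    have : Injective Q.shortComplex.X₂ := Q.injective
    have := (EtCoh.pullPushAdj f).rightAdjoint_preservesLimits
    have : Epi ((EtCoh.push f).map Q.shortComplex.g) := (shortExact_push_of_qcAcyclic f hE hF).epi_g
    let := HasDerivedCategory.standard (EtCoh.Ab X)
    let := HasDerivedCategory.standard (EtCoh.Ab Y)
    obtain ⟨δ, w₁, w₂, w₃, -, e₂, e₃⟩ := TriCat.exists_rightDerived_ses (EtCoh.push f) hE 0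
    refine e₃.isZero_X₂ ?_ ((TriCat.isRightAcyclic_of_injective Q.shortComplex.X₂ 1 one_pos).eq_of_tgt _ _)
    have : Epi (((EtCoh.push f).rightDerived 0).map Q.shortComplex.g) :=
      ((MorphismProperty.epimorphisms _).arrow_mk_iso_iff
        (Arrow.isoOfNatIso (EtCoh.push f).rightDerivedZeroIsoSelf (Arrow.mk Q.shortComplex.g))).2 ‹Epi ((EtCoh.push f).map Q.shortComplex.g)›
    exact (cancel_epi (((EtCoh.push f).rightDerived 0).map Q.shortComplex.g)).1 (w₂.trans comp_zero.symm)
  | succ n ih =>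
    intro F hF
    let Q := Classical.arbitrary (InjectivePresentation F)
    have hE := Q.shortExact_shortComplex
    have : Injective Q.shortComplex.X₂ := Q.injective
    let := HasDerivedCategory.standard (EtCoh.Ab X)
    let := HasDerivedCategory.standard (EtCoh.Ab Y)
    obtain ⟨δ, w₁, w₂, w₃, -, -, e₃⟩ := TriCat.exists_rightDerived_ses (EtCoh.push f) hE (n + 1)
    refine e₃.isZero_X₂ ?_ ((TriCat.isRightAcyclic_of_injective Q.shortComplex.X₂ _ (by omega)).eq_of_tgt _ _)
    exact (ih _ (qcAcyclic_X₃ hE hF (qcAcyclic_injective _))).eq_of_src _ _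

theorem isRightAcyclic_push (f : X ⟶ Y) [QuasiCompact f] [QuasiSeparated f] {F : EtCoh.Ab X}
    (hF : QcAcyclic F) : TriCat.IsRightAcyclic (EtCoh.push f) F := fun i hi => by
  obtain ⟨n, rfl⟩ : ∃ n, i = n + 1 := ⟨i - 1, by omega⟩
  exact isZero_Rpush_succ f n F hF

end Groth.Agent.EtBCA
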