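import Groth.Agent.EtBCA.Points
import Groth.Agent.EtBCA.QcAcyclic
import Groth.Agent.EtBCA.Torsion
import Mathlib.CategoryTheory.Abelian.GrothendieckAxioms.Sheaf
import Mathlib.CategoryTheory.Abelian.GrothendieckAxioms.Colim

/-!
# Effacing torsion sheaves by torsion sheaves without higher cohomology
-/

set_option autoImplicit false
set_option linter.style.haveILetI false

universe u

open CategoryTheory CategoryTheory.Limits AlgebraicGeometry Opposite

namespace Groth.Agent.EtBCA

set_option backward.isDefEq.respectTransparency.types false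

variable {X : Scheme.{u}} {L : Set ℕ}

theorem stalk_additive {Ω : Type u} [Field Ω] [IsSepClosed Ω] (ξ : Spec (CommRingCat.of Ω) ⟶ X) :
    (EtCoh.stalk ξ).Additive := Functor.additive_of_preserves_binary_products _

theorem isLTorsion_of_nsmul_id_eq_zero {G : EtCoh.Ab X} {m : ℕ} (hm : EtAcyc.PrimesIn L m)
    (h : m • 𝟙 G = 0) : EtAcyc.IsLTorsion L G := by
  rw [S8525.result]
  intro Ω _ _ ξ t
  refine ⟨m, hm, ?_⟩
  have := stalk_additive ξ
  have h' : m • 𝟙 ((EtCoh.stalk ξ).obj G) = 0 := by
    rw [← (EtCoh.stalk ξ).map_id, ← Functor.map_nsmul, h, Functor.map_zero]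
  exact ConcreteCategory.congr_hom h' t

theorem isLTorsion_colimit {Λ : Type (u + 1)} [SmallCategory Λ] [IsFiltered Λ] (D : Λ ⥤ EtCoh.Ab X)
    (h : ∀ i, EtAcyc.IsLTorsion L (D.obj i)) : EtAcyc.IsLTorsion L (colimit D) := by
  rw [S8525.result]
  intro Ω _ _ ξ t
  obtain ⟨i, y, rfl⟩ := Concrete.isColimit_exists_rep _
    (isColimitOfPreserves (EtCoh.stalk ξ) (colimit.isColimit D)) t
  obtain ⟨m, hm, h0⟩ := (S8525.result L _).1 (h i) Ω ξ y
  refine ⟨m, hm, ?_⟩
  rw [← map_nsmul, h0, map_zero]

variable (L) in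
/-- positive integers with prime factors in `L`, ordered by divisibility -/
structure TorIdx : Type (u + 1) where
  /-- the integer -/
  val : ℕ
  prop : EtAcyc.PrimesIn L val

instance : Preorder (TorIdx.{u} L) where
  le a b := a.val ∣ b.val
  le_refl a := dvd_rfl
  le_trans a b c := dvd_trans

instance : Nonempty (TorIdx.{u} L) :=
  ⟨⟨1, one_pos, fun _ hp h => absurd (Nat.le_of_dvd one_pos h) (not_le.2 hp.one_lt)⟩⟩

instance : IsDirectedOrder (TorIdx.{u} L) where
  directed a b := by
    refine ⟨⟨Nat.lcm a.val b.val, Nat.pos_of_ne_zero (Nat.lcm_ne_zero a.prop.1.ne' b.prop.1.ne'),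
      fun p hp h => ?_⟩, Nat.dvd_lcm_left _ _, Nat.dvd_lcm_right _ _⟩
    rcases hp.dvd_mul.1 (h.trans (Nat.lcm_dvd_mul _ _)) with h' | h'
    · exact a.prop.2 p hp h'
    · exact b.prop.2 p hp h'

/-- the kernels of multiplication by the integers in `TorIdx` -/
noncomputable def torSystem (F : EtCoh.Ab X) : TorIdx.{u} L ⥤ EtCoh.Ab X where
  obj a := kernel (a.val • 𝟙 F)
  map {a b} h := kernel.lift _ (kernel.ι _) (by
    obtain ⟨c, hc⟩ := leOfHom h
    rw [hc, mul_comm, mul_nsmul', Preadditive.comp_nsmul, kernel.condition, smul_zero])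
  map_id a := (cancel_mono (kernel.ι _)).1 (by simp)
  map_comp _ _ := (cancel_mono (kernel.ι _)).1 (by simp)

theorem nsmul_id_torSystem (F : EtCoh.Ab X) (a : TorIdx.{u} L) :
    a.val • 𝟙 ((torSystem F).obj a) = 0 := by
  show a.val • 𝟙 (kernel (a.val • 𝟙 F)) = 0
  refine (cancel_mono (kernel.ι (a.val • 𝟙 F))).1 ?_
  rw [zero_comp, ← kernel.condition (a.val • 𝟙 F), Preadditive.nsmul_comp, Preadditive.comp_nsmul,
    Category.id_comp, Category.comp_id]

/-- an `L`-torsion sheaf is the union of its kernels -/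
noncomputable def torCocone (F : EtCoh.Ab X) : Cocone (torSystem (L := L) F) where
  pt := F
  ι := { app := fun a => kernel.ι _, naturality := fun a b h => by simp [torSystem] }

theorem isIso_torDesc (F : EtCoh.Ab X) (hF : EtAcyc.IsLTorsion L F) :
    IsIso (colimit.desc _ (torCocone (L := L) F)) := by
  have : CategoryTheory.IsConnected (TorIdx.{u} L) := IsFiltered.isConnected _
  let φ : torSystem (L := L) F ⟶ (Functor.const _).obj F := (torCocone F).ι
  have : ∀ a, Mono (φ.app a) := fun a => inferInstanceAs (Mono (kernel.ι _))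
  have : Mono φ := NatTrans.mono_of_mono_app φ
  have : Mono (colimit.desc _ (torCocone (L := L) F)) := by
    have h := colim.map_mono' φ (colimit.isColimit (torSystem (L := L) F))
      (isColimitConstCocone (TorIdx.{u} L) F) (colimit.desc _ (torCocone (L := L) F))
      (fun j => (colimit.ι_desc _ j).trans (Category.comp_id _).symm)
    exact h
  have : Epi (colimit.desc _ (torCocone (L := L) F)) := by
    refine (EtFound.epi_iff_stalks _).2 fun Ω _ _ ξ t => ?_
    obtain ⟨m, hm, h0⟩ := (S8525.result L F).1 hF Ω ξ t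
    let a : TorIdx.{u} L := ⟨m, hm⟩
    have := stalk_additive ξ
    have hex : ((ShortComplex.mk (kernel.ι (m • 𝟙 F)) (m • 𝟙 F) (kernel.condition _)).map
        (EtCoh.stalk ξ)).Exact :=
      (ShortComplex.exact_of_f_is_kernel _ (kernelIsKernel _)).map _
    have h0' : (EtCoh.stalk ξ).map (m • 𝟙 F) t = 0 := by
      rw [Functor.map_nsmul, CategoryTheory.Functor.map_id]
      exact h0
    obtain ⟨y, hy⟩ := (ShortComplex.ab_exact_iff _).1 hex t h0'
    refine ⟨(EtCoh.stalk ξ).map (colimit.ι (torSystem (L := L) F) a) y, ?_⟩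
    rw [← ConcreteCategory.comp_apply, ← Functor.map_comp, colimit.ι_desc]
    exact hy
  exact isIso_of_mono_of_epi _

/-- every `L`-torsion sheaf embeds in an `L`-torsion sheaf without cohomology on qcqs etale schemes -/
theorem exists_efface (F : EtCoh.Ab X) (hF : EtAcyc.IsLTorsion L F) :
    ∃ (I : EtCoh.Ab X) (u : F ⟶ I), Mono u ∧ EtAcyc.IsLTorsion L I ∧ QcAcyclic I := by
  let R := EtCoh.pull (ptsMap X) ⋙ EtCoh.push (ptsMap X)
  let D := torSystem (L := L) F ⋙ R
  let θ : torSystem (L := L) F ⟶ D :=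
    (Functor.rightUnitor _).inv ≫ Functor.whiskerLeft _ (EtCoh.pullPushAdj (ptsMap X)).unit
  have : ∀ a, Mono (θ.app a) := fun a => by
    have := ptsMap_unit_mono X ((torSystem (L := L) F).obj a)
    simp only [θ, NatTrans.comp_app, Functor.rightUnitor_inv_app, Functor.whiskerLeft_app]
    exact mono_comp _ _
  have : Mono θ := NatTrans.mono_of_mono_app θ
  have : Mono (colimMap θ) := inferInstanceAs (Mono (colim.map θ))
  let e : colimit (torSystem (L := L) F) ≅ F :=
    @asIso _ _ _ _ (colimit.desc _ (torCocone (L := L) F)) (isIso_torDesc F hF)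
  refine ⟨colimit D, e.inv ≫ colimMap θ, mono_comp _ _,
    isLTorsion_colimit D fun a => isLTorsion_of_nsmul_id_eq_zero a.prop ?_,
    qcAcyclic_colimit D fun a => qcAcyclic_of_flabby (flabby_ptsPush _)⟩
  have : (EtCoh.pull (ptsMap X)).Additive := (EtCoh.pullPushAdj (ptsMap X)).left_adjoint_additive
  have : (EtCoh.push (ptsMap X)).Additive := (EtCoh.pullPushAdj (ptsMap X)).right_adjoint_additive
  show a.val • 𝟙 (R.obj ((torSystem (L := L) F).obj a)) = 0
  rw [← R.map_id, ← Functor.map_nsmul, nsmul_id_torSystem, Functor.map_zero]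

end Groth.Agent.EtBCA
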