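import Groth.Agent.EtFound.Detect
import Groth.Prelude.Def_EtBCD
import Mathlib.CategoryTheory.Adhesive.Basic
import Mathlib.CategoryTheory.Sites.LeftExact

/-!
# Calculus of global sections for sheaves of sets: inverse images, direct images, base change
-/

set_option autoImplicit false

universe u

open CategoryTheory CategoryTheory.Limits AlgebraicGeometry Opposite

namespace Groth.Agent.EtBCA

set_option backward.isDefEq.respectTransparency.types false

variable {X Y Z : Scheme.{u}}

/-- two restriction maps towards the final object agree -/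
theorem map_eq_of_terminal (G : EtDesc.Sh X) {A B : X.Etale} (hA : IsTerminal A) (a b : B ⟶ A)
    (s : EtDesc.sect G A) : G.obj.map a.op s = G.obj.map b.op s := by
  rw [hA.hom_ext a b]

/-- sections of a direct image over the final object -/
noncomputable def pushTop (f : X ⟶ Y) (G : EtDesc.Sh X)
    (s : EtDesc.sect ((EtDesc.pushSh f).obj G) (EtCoh.top Y)) : EtDesc.sect G (EtCoh.top X) :=
  G.obj.map (EtCore.bcTopIso f).inv.op s

theorem pushTop_bijective (f : X ⟶ Y) (G : EtDesc.Sh X) : Function.Bijective (pushTop f G) :=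
  (isIso_iff_bijective (G.obj.map (EtCore.bcTopIso f).inv.op)).1 inferInstance

theorem pushTop_natural (f : X ⟶ Y) {G G' : EtDesc.Sh X} (φ : G ⟶ G')
    (s : EtDesc.sect ((EtDesc.pushSh f).obj G) (EtCoh.top Y)) :
    pushTop f G' (((EtDesc.pushSh f).map φ).hom.app _ s) = φ.hom.app _ (pushTop f G s) :=
  (NatTrans.naturality_apply φ.hom (EtCore.bcTopIso f).inv.op s).symm

theorem secPull_eq (f : X ⟶ Y) (F : EtDesc.Sh Y) (s : EtDesc.sect F (EtCoh.top Y)) :
    EtDesc.secPull f F s = pushTop f _ (((EtDesc.adjSh f).unit.app F).hom.app _ s) := rfl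

theorem secPull_natural (f : X ⟶ Y) {F F' : EtDesc.Sh Y} (φ : F ⟶ F')
    (s : EtDesc.sect F (EtCoh.top Y)) :
    ((EtDesc.pullSh f).map φ).hom.app _ (EtDesc.secPull f F s) =
      EtDesc.secPull f F' (φ.hom.app _ s) := by
  rw [secPull_eq, secPull_eq, ← pushTop_natural]
  exact congrArg (pushTop f _)
    (congr(($((EtDesc.adjSh f).unit.naturality φ)).hom.app (op (EtCoh.top Y)) s)).symm

/-- a morphism out of an inverse image applied to a pulled back section -/
theorem secPull_transpose (f : X ⟶ Y) {F : EtDesc.Sh Y} {B : EtDesc.Sh X}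
    (φ : (EtDesc.pullSh f).obj F ⟶ B) (s : EtDesc.sect F (EtCoh.top Y)) :
    φ.hom.app _ (EtDesc.secPull f F s) =
      pushTop f B (((EtDesc.adjSh f).homEquiv _ _ φ).hom.app _ s) := by
  rw [secPull_eq, ← pushTop_natural, Adjunction.homEquiv_unit]
  rfl

theorem secPull_transpose' (f : X ⟶ Y) {F : EtDesc.Sh Y} {B : EtDesc.Sh X}
    (φ : F ⟶ (EtDesc.pushSh f).obj B) (s : EtDesc.sect F (EtCoh.top Y)) :
    (((EtDesc.adjSh f).homEquiv _ _).symm φ).hom.app _ (EtDesc.secPull f F s) =
      pushTop f B (φ.hom.app _ s) := by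
  rw [secPull_transpose, Equiv.apply_symm_apply]

theorem pushTop_counit (f : X ⟶ Y) (G : EtDesc.Sh X)
    (s : EtDesc.sect ((EtDesc.pushSh f).obj G) (EtCoh.top Y)) :
    ((EtDesc.adjSh f).counit.app G).hom.app _ (EtDesc.secPull f _ s) = pushTop f G s := by
  rw [secPull_transpose]
  refine congrArg (pushTop f G) ?_
  rw [Adjunction.homEquiv_unit, Adjunction.right_triangle_components]
  rfl

theorem pushTop_pushCompSh (f : X ⟶ Y) (g : Z ⟶ X) (G : EtDesc.Sh Z)
    (s : EtDesc.sect ((EtDesc.pushSh f).obj ((EtDesc.pushSh g).obj G)) (EtCoh.top Y)) :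
    pushTop (g ≫ f) G (((EtDesc.pushCompSh f g).hom.app G).hom.app _ s) =
      pushTop g G (pushTop f _ s) := by
  have h1 : IsTerminal ((EtCoh.bc g).obj ((EtCoh.bc f).obj (EtCoh.top Y))) :=
    IsTerminal.isTerminalObj (EtCoh.bc g) _ (EtCore.bcTopIsTerminal f)
  dsimp only [EtDesc.pushCompSh, Functor.sheafPushforwardContinuousComp', pushTop]
  simp only [Iso.trans_hom, NatTrans.comp_app]
  change G.obj.map _ (G.obj.map _ _) = G.obj.map _ (G.obj.map _ _)
  refine ((Functor.map_comp_apply G.obj _ _ s).symm.trans ?_).trans (Functor.map_comp_apply G.obj _ _ s)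
  exact map_eq_of_terminal G h1 _ _ s

theorem pushTop_pushCompSh_inv (f : X ⟶ Y) (g : Z ⟶ X) (G : EtDesc.Sh Z)
    (s : EtDesc.sect ((EtDesc.pushSh (g ≫ f)).obj G) (EtCoh.top Y)) :
    pushTop g G (pushTop f _ (((EtDesc.pushCompSh f g).inv.app G).hom.app _ s)) =
      pushTop (g ≫ f) G s := by
  rw [← pushTop_pushCompSh]
  refine congrArg (pushTop (g ≫ f) G) ?_
  exact congr(($((EtDesc.pushCompSh f g).inv_hom_id_app G)).hom.app (op (EtCoh.top Y)) s)

theorem pushTop_pushCongrSh {f f' : X ⟶ Y} (h : f = f') (G : EtDesc.Sh X)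
    (s : EtDesc.sect ((EtDesc.pushSh f).obj G) (EtCoh.top Y)) :
    pushTop f' G (((EtBC.pushCongrSh h).hom.app G).hom.app _ s) = pushTop f G s := by
  refine (Functor.map_comp_apply G.obj _ _ s).symm.trans ?_
  exact map_eq_of_terminal G (EtCore.bcTopIsTerminal f) _ _ s

/-- base change on global sections: both ways round the square give the same section -/
theorem pushTop_baseChange0Sh {X S X' S' : Scheme.{u}} (f : X ⟶ S) (g : S' ⟶ S) (f' : X' ⟶ S')
    (g' : X' ⟶ X) (w : g' ≫ f = f' ≫ g) (F : EtDesc.Sh X)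
    (s : EtDesc.sect ((EtDesc.pushSh f).obj F) (EtCoh.top S)) :
    pushTop f' _ ((EtBC.baseChange0Sh f g f' g' w F).hom.app _ (EtDesc.secPull g _ s)) =
      EtDesc.secPull g' F (pushTop f F s) := by
  dsimp only [EtBC.baseChange0Sh]
  rw [secPull_transpose', secPull_eq]
  simp only [InducedCategory.comp_hom, NatTrans.comp_app, types_comp_apply]
  refine (pushTop_pushCompSh_inv g f' _ _).trans ?_
  refine (pushTop_pushCongrSh w _ _).trans ?_
  refine (pushTop_pushCompSh f g' _ _).trans ?_
  exact congrArg (pushTop g' _) (pushTop_natural f _ s)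

/-- inverse image of sheaves of sets preserves monomorphisms -/
theorem pullSh_map_mono (f : X ⟶ Y) {F G : EtDesc.Sh Y} (φ : F ⟶ G) [Mono φ] :
    Mono ((EtDesc.pullSh f).map φ) := by
  have : Mono φ.hom := (sheafToPresheaf _ _).map_mono φ
  have hl : Presheaf.IsLocallyInjective Y.smallEtaleTopology φ.hom :=
    Presheaf.isLocallyInjective_of_injective _ _ fun U => (CategoryTheory.mono_iff_injective _).1 inferInstance
  have : ∀ U, Mono (((EtDesc.pullSh f).map φ).hom.app U) := fun U =>
    (CategoryTheory.mono_iff_injective _).2 (EtFound.injective_of_stalks _ (fun Ω _ _ ξ => by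
      have h1 : Mono ((Scheme.pointSmallEtale (ξ ≫ f)).sheafFiber.map φ) :=
        (CategoryTheory.mono_iff_injective _).2
          ((Scheme.pointSmallEtale (ξ ≫ f)).toPresheafFiber_map_injective φ.hom)
      have h2 := ((MorphismProperty.monomorphisms (Type (u + 1))).arrow_mk_iso_iff
        (Arrow.isoOfNatIso (EtFound.sheafFiberPullIso (A := Type (u + 1)) f ξ) (Arrow.mk φ))).2 h1
      exact (CategoryTheory.mono_iff_injective _).1 h2) U.unop)
  have := NatTrans.mono_of_mono_app ((EtDesc.pullSh f).map φ).hom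
  exact (sheafToPresheaf _ _).mono_of_mono_map this

theorem sect_injective_of_mono {F G : EtDesc.Sh X} (φ : F ⟶ G) [Mono φ] (U : X.Etale) :
    Function.Injective (φ.hom.app (op U)) := by
  have : Mono φ.hom := (sheafToPresheaf _ _).map_mono φ
  exact (CategoryTheory.mono_iff_injective _).1 inferInstance

/-- a section of the target equalized by the cokernel pair of a monomorphism comes from the source -/
theorem exists_preimage_of_mono {F G : EtDesc.Sh X} (u : F ⟶ G) [Mono u] (U : X.Etale)
    (t : EtDesc.sect G U)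
    (ht : ∀ (H : EtDesc.Sh X) (a b : G ⟶ H), u ≫ a = u ≫ b → a.hom.app _ t = b.hom.app _ t) :
    ∃ s, u.hom.app _ s = t := by
  let r := regularMonoOfMono u
  have hl := isLimitForkMapOfIsLimit
    (sheafToPresheaf X.smallEtaleTopology (Type (u + 1)) ⋙ (evaluation X.Etaleᵒᵖ (Type (u + 1))).obj (op U))
    r.w r.isLimit
  obtain ⟨s, hs, -⟩ := Types.unique_of_type_equalizer _ _ hl t (ht _ r.left r.right r.w)
  exact ⟨s, hs⟩

end Groth.Agent.EtBCA
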