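import Groth.Agent.EtBCA.Torsion
import Groth.Agent.EtBCA.Sets
import Groth.Agent.EtFound.UnivInjPush
import Groth.Agent.S0642
import Groth.Prelude.Def_EtAcyc

/-!
# The comparison condition and composition of morphisms
-/

set_option autoImplicit false

universe u

open CategoryTheory CategoryTheory.Limits AlgebraicGeometry Opposite

namespace Groth.Agent.EtBCA

set_option backward.isDefEq.respectTransparency.types false

variable {X Y Z : Scheme.{u}} {L : Set ℕ} {n : ℕ}

/-- left cancellation of the comparison condition -/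
theorem compN_comp_iff (a : X ⟶ Y) (b : Y ⟶ Z) (ha : EtAcyc.CompN a L n) :
    EtAcyc.CompN b L n ↔ EtAcyc.CompN (a ≫ b) L n := by
  have := pullExact a
  have := pullExact b
  have := pullExact (a ≫ b)
  constructor
  · intro hb F hF _
    obtain ⟨hb1, hb2⟩ := hb F hF
    obtain ⟨ha1, ha2⟩ := ha _ (isLTorsion_pull b hF)
    refine ⟨fun q hq => ?_, ?_⟩
    · refine (Function.Bijective.of_comp_iff'
        (HF_map_bijective ((EtCore.pullComp a b).hom.app F) q) _).1 ?_
      rw [Hpull_comp' a b F q]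
      exact (ha1 q hq).comp (hb1 q hq)
    · refine Function.Injective.of_comp (f := (EtCoh.HF X (n + 1)).map ((EtCore.pullComp a b).hom.app F)) ?_
      rw [Hpull_comp' a b F (n + 1)]
      exact ha2.comp hb2
  · intro hab F hF _
    obtain ⟨hab1, hab2⟩ := hab F hF
    obtain ⟨ha1, ha2⟩ := ha _ (isLTorsion_pull b hF)
    refine ⟨fun q hq => ?_, ?_⟩
    · refine (Function.Bijective.of_comp_iff' (ha1 q hq) _).1 ?_
      rw [← Hpull_comp' a b F q]
      exact (HF_map_bijective _ q).comp (hab1 q hq)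
    · refine Function.Injective.of_comp (f := EtCore.Hpull a ((EtCoh.pull b).obj F) (n + 1)) ?_
      rw [← Hpull_comp' a b F (n + 1)]
      exact (HF_map_bijective _ _).1.comp hab2

theorem compN_of_isIso (e : X ⟶ Y) [IsIso e] : EtAcyc.CompN e L n := fun F _ _ =>
  ⟨fun q _ => S0642.result e F q, (S0642.result e F (n + 1)).1⟩

theorem compN_iso_comp_iff (e : X ⟶ Y) [IsIso e] (b : Y ⟶ Z) :
    EtAcyc.CompN (e ≫ b) L n ↔ EtAcyc.CompN b L n :=
  (compN_comp_iff e b (compN_of_isIso e)).symm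

/-- units of a composite, for sheaves of sets -/
theorem unit_comp_sets (a : X ⟶ Y) (b : Y ⟶ Z) (F : EtDesc.Sh Z) :
    (EtDesc.adjSh (a ≫ b)).unit.app F ≫
        (EtDesc.pushSh (a ≫ b)).map ((EtDesc.pullCompSh a b).hom.app F) =
      ((EtDesc.adjSh b).unit.app F ≫
        (EtDesc.pushSh b).map ((EtDesc.adjSh a).unit.app ((EtDesc.pullSh b).obj F))) ≫
      (EtDesc.pushCompSh b a).hom.app _ := by
  refine (Adjunction.unit_leftAdjointUniq_hom_app (EtDesc.adjSh (a ≫ b))
    (((EtDesc.adjSh b).comp (EtDesc.adjSh a)).ofNatIsoRight (EtDesc.pushCompSh b a)) F).trans ?_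
  rw [Adjunction.ofNatIsoRight_unit]
  simp

theorem unit_isIso_comp_iff (a : X ⟶ Y) (b : Y ⟶ Z) (F : EtDesc.Sh Z)
    [IsIso ((EtDesc.adjSh a).unit.app ((EtDesc.pullSh b).obj F))] :
    IsIso ((EtDesc.adjSh b).unit.app F) ↔ IsIso ((EtDesc.adjSh (a ≫ b)).unit.app F) := by
  have h := unit_comp_sets a b F
  constructor
  · intro hb
    have : IsIso ((EtDesc.adjSh (a ≫ b)).unit.app F ≫
        (EtDesc.pushSh (a ≫ b)).map ((EtDesc.pullCompSh a b).hom.app F)) := by
      rw [h]; exact IsIso.comp_isIso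
    exact IsIso.of_isIso_comp_right _ ((EtDesc.pushSh (a ≫ b)).map ((EtDesc.pullCompSh a b).hom.app F))
  · intro hab
    have : IsIso (((EtDesc.adjSh b).unit.app F ≫
        (EtDesc.pushSh b).map ((EtDesc.adjSh a).unit.app ((EtDesc.pullSh b).obj F))) ≫
        (EtDesc.pushCompSh b a).hom.app _) := by
      rw [← h]; exact IsIso.comp_isIso
    have : IsIso ((EtDesc.adjSh b).unit.app F ≫
        (EtDesc.pushSh b).map ((EtDesc.adjSh a).unit.app ((EtDesc.pullSh b).obj F))) :=
      IsIso.of_isIso_comp_right _ ((EtDesc.pushCompSh b a).hom.app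
        ((EtDesc.pullSh a).obj ((EtDesc.pullSh b).obj F)))
    exact IsIso.of_isIso_comp_right _
      ((EtDesc.pushSh b).map ((EtDesc.adjSh a).unit.app ((EtDesc.pullSh b).obj F)))

theorem unit_isIso_of_isIso (e : X ⟶ Y) [IsIso e] (F : EtDesc.Sh Y) :
    IsIso ((EtDesc.adjSh e).unit.app F) :=
  EtFound.unit_isIso_of_outside' (A := Type (u + 1)) e (EtFound.liftable_of_integral_univInj e)
    (EtFound.univEmb_of_integral_univInj e) e.isClosedMap.isClosed_range F
    fun _ _ _ _ hξ => absurd (e.surjective _) hξ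

variable (g : X ⟶ Y) (h : Y ⟶ Z)

/-- the projection for a composite, through the intermediate scheme -/
theorem prj_comp (V : Z.Etale) :
    ∃ (e : pullback V.hom (g ≫ h) ⟶ pullback ((EtCoh.bc h).obj V).hom g), IsIso e ∧
      e ≫ EtAcyc.prj g ((EtCoh.bc h).obj V) ≫ EtAcyc.prj h V = EtAcyc.prj (g ≫ h) V := by
  have hb : IsPullback (pullback.fst ((EtCoh.bc h).obj V).hom g ≫ pullback.fst V.hom h)
      (pullback.snd ((EtCoh.bc h).obj V).hom g) V.hom (g ≫ h) :=
    IsPullback.paste_horiz (IsPullback.of_hasPullback ((EtCoh.bc h).obj V).hom g).flip.flip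
      (IsPullback.of_hasPullback V.hom h).flip.flip |>.flip.flip
  exact ⟨hb.isoPullback.inv, inferInstance, hb.isoPullback_inv_fst⟩

theorem isAcyclicN_comp_iff (hg : EtAcyc.IsAcyclicN g L n) :
    EtAcyc.IsAcyclicN h L n ↔ EtAcyc.IsAcyclicN (g ≫ h) L n := by
  refine forall_congr' fun V => ?_
  obtain ⟨e, he, hfac⟩ := prj_comp g h V
  rw [← hfac]
  exact (compN_comp_iff _ _ (hg _)).trans (compN_iso_comp_iff e _).symm

theorem isZeroAcyclic_comp_iff (hg : EtAcyc.IsZeroAcyclic g) :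
    EtAcyc.IsZeroAcyclic h ↔ EtAcyc.IsZeroAcyclic (g ≫ h) := by
  refine forall_congr' fun V => forall_congr' fun F => ?_
  obtain ⟨e, he, hfac⟩ := prj_comp g h V
  refine (@unit_isIso_comp_iff _ _ _ (EtAcyc.prj g ((EtCoh.bc h).obj V)) (EtAcyc.prj h V) F (hg _ _)).trans ?_
  refine (@unit_isIso_comp_iff _ _ _ e (EtAcyc.prj g ((EtCoh.bc h).obj V) ≫ EtAcyc.prj h V) F
    (unit_isIso_of_isIso e _)).trans ?_
  rw [hfac]

end Groth.Agent.EtBCA
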