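import Groth.Agent.BigSiteLib.HofPushEt

/-!
# The edge map of the Leray spectral sequence in low degrees
-/

set_option autoImplicit false
set_option linter.style.haveILetI false

universe w v v' u u'

open CategoryTheory CategoryTheory.Limits CategoryTheory.Abelian

namespace Groth.Agent.EtBCA

section Abstract

open BigSiteLib.HofBij

variable {A : Type u} [Category.{v} A] [Abelian A] [EnoughInjectives A] [HasExt.{w} A]
  {B : Type u'} [Category.{v'} B] [Abelian B] [HasExt.{w} B]
  {L : B ⥤ A} {R : A ⥤ B} [L.Additive] [R.Additive] [PreservesFiniteLimits L] [PreservesFiniteColimits L]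
  (adj : L ⊣ R) {ZA : A} {ZB : B} (i : ZA ⟶ L.obj ZB)

theorem injective_of_hof_eq_zero {F : A} {p : ℕ}
    (h : ∀ x, hof adj i F p x = 0 → x = 0) : Function.Injective (hof adj i F p) := fun x y hxy => by
  have e := hof_add adj i F p (x - y) y
  rw [sub_add_cancel, hxy] at e
  exact sub_eq_zero.1 (h _ (by simpa using e.symm))

/-- vanishing of `R^j` passes to the cokernel of an embedding in an injective -/
theorem isZero_rightDerived_X₃ [PreservesFiniteLimits R] {S : ShortComplex A} (hS : S.ShortExact)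
    [Injective S.X₂] (j : ℕ) (hj : 0 < j) (h : IsZero ((R.rightDerived (j + 1)).obj S.X₁)) :
    IsZero ((R.rightDerived j).obj S.X₃) := by
  let := HasDerivedCategory.standard A
  let := HasDerivedCategory.standard B
  obtain ⟨δ, w₁, w₂, w₃, -, e₂, -⟩ := TriCat.exists_rightDerived_ses R hS j
  exact e₂.isZero_X₂ ((TriCat.isRightAcyclic_of_injective S.X₂ j hj).eq_of_src _ _) (h.eq_of_tgt _ _)

theorem hof_injective_one (hi : IsIso i) [PreservesFiniteLimits R] (F : A) :
    Function.Injective (hof adj i F 1) := by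
  refine injective_of_hof_eq_zero adj i fun x hx => ?_
  let Q := Classical.arbitrary (InjectivePresentation F)
  have hS := Q.shortExact_shortComplex
  let S := Q.shortComplex
  haveI : Injective S.X₂ := Q.injective
  haveI : Injective (R.obj S.X₂) := Injective.injective_of_adjoint adj _
  have : Mono S.f := hS.mono_f
  let T := ShortComplex.mk (R.map S.f) (cokernel.π _) (cokernel.condition _)
  have hT : T.ShortExact :=
    { exact := ShortComplex.exact_of_g_is_cokernel _ (cokernelIsCokernel _)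
      mono_f := inferInstanceAs (Mono (R.map S.f)) }
  let κ : T.X₃ ⟶ R.obj S.X₃ := cokernel.desc _ (R.map S.g) (S.map R).zero
  have : Mono κ :=
    (ShortComplex.exact_iff_mono_cokernel_desc (S.map R)).1
      (hS.exact.map_of_mono_of_preservesKernel R hS.mono_f inferInstance)
  have hn : (hT.extClass.mapExactFunctor L).comp (Ext.mk₀ (adj.counit.app S.X₁)) (add_zero 1) =
      (Ext.mk₀ (L.map κ ≫ adj.counit.app S.X₃)).comp hS.extClass (zero_add 1) :=
    (congrArg (fun t => Ext.comp t (Ext.mk₀ (adj.counit.app S.X₁)) (add_zero 1))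
        (Ext.mapExactFunctor_extClass L hT)).trans
      (ShortComplex.ShortExact.extClass_naturality (hT.map_of_exact L) hS
        ({ τ₁ := adj.counit.app S.X₁, τ₂ := adj.counit.app S.X₂, τ₃ := L.map κ ≫ adj.counit.app S.X₃
           comm₁₂ := (adj.counit.naturality S.f).symm
           comm₂₃ := (adj.counit.naturality S.g).symm.trans (by
            show L.map (R.map S.g) ≫ _ = L.map (cokernel.π _) ≫ L.map κ ≫ _
            rw [← L.map_comp_assoc, cokernel.π_desc]) } : T.map L ⟶ S))
  obtain ⟨y, rfl⟩ : ∃ y : Ext.{w} ZB T.X₃ 0, y.comp hT.extClass rfl = x :=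
    haveI : Injective T.X₂ := ‹Injective (R.obj S.X₂)›
    Ext.covariant_sequence_exact₁ ZB hT x (Ext.eq_zero_of_injective _) rfl
  obtain ⟨y₀, rfl⟩ := (Ext.mk₀_bijective _ _).2 y
  let y' : Ext.{w} ZB (R.obj S.X₃) 0 := (Ext.mk₀ y₀).comp (Ext.mk₀ κ) (add_zero 0)
  have hx' : (hof adj i S.X₃ 0 y').comp hS.extClass (zero_add 1) = 0 := by
    rw [← hx]
    simp only [hof, y', Ext.mapExactFunctor_comp, Ext.mapExactFunctor_mk₀,
      Ext.comp_assoc_of_third_deg_zero, Ext.mk₀_comp_mk₀,
      Ext.mk₀_comp_mk₀_assoc, Category.assoc, Functor.map_comp]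
    refine Eq.trans ?_ (congrArg (fun t => (Ext.mk₀ (i ≫ L.map y₀)).comp t (zero_add 1)) hn).symm
    rw [Ext.mk₀_comp_mk₀_assoc, Category.assoc]
  obtain ⟨z, hz⟩ := Ext.covariant_sequence_exact₃ ZA hS (hof adj i S.X₃ 0 y') (n₁ := 1) (zero_add 1) hx'
  obtain ⟨z', rfl⟩ := (hof_bijective_zero adj i hi S.X₂).2 z
  have hy : y' = z'.comp (Ext.mk₀ (R.map S.g)) (add_zero 0) :=
    (hof_bijective_zero adj i hi S.X₃).1 (hz.symm.trans (hof_natural adj i S.g 0 z').symm)
  obtain ⟨z₀, rfl⟩ := (Ext.mk₀_bijective _ _).2 z'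
  have hy₀ : y₀ = z₀ ≫ T.g := by
    refine (cancel_mono κ).1 ((Ext.mk₀_bijective _ _).1 ?_)
    show Ext.mk₀ (y₀ ≫ κ) = Ext.mk₀ ((z₀ ≫ cokernel.π _) ≫ κ)
    rw [Category.assoc, cokernel.π_desc, ← Ext.mk₀_comp_mk₀, ← Ext.mk₀_comp_mk₀]
    exact hy
  rw [hy₀, ← Ext.mk₀_comp_mk₀, Ext.comp_assoc_of_second_deg_zero, hT.comp_extClass, Ext.comp_zero]

theorem hof_edge (hi : IsIso i) [PreservesFiniteLimits R] :
    ∀ (p : ℕ) (F : A), (∀ j, 0 < j → j ≤ p → IsZero ((R.rightDerived j).obj F)) →
      Function.Bijective (hof adj i F p) ∧ Function.Injective (hof adj i F (p + 1)) := by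
  intro p
  induction p with
  | zero => exact fun F _ => ⟨hof_bijective_zero adj i hi F, hof_injective_one adj i hi F⟩
  | succ p ih =>
    intro F hF
    let Q := Classical.arbitrary (InjectivePresentation F)
    have hS := Q.shortExact_shortComplex
    let S := Q.shortComplex
    haveI : Injective S.X₂ := Q.injective
    haveI : Injective (R.obj S.X₂) := Injective.injective_of_adjoint adj _
    have hS' : (S.map R).ShortExact :=
      TriCat.shortExact_map_of_subsingleton hS (hF 1 one_pos (by omega))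
    have hG := ih S.X₃ fun j hj hjp => isZero_rightDerived_X₃ hS j hj (hF (j + 1) (by omega) (by omega))
    let e' : Ext.{w} (R.obj S.X₃) (R.obj S.X₁) 1 := hS'.extClass
    have hn : (e'.mapExactFunctor L).comp (Ext.mk₀ (adj.counit.app S.X₁)) (add_zero 1) =
        (Ext.mk₀ (adj.counit.app S.X₃)).comp hS.extClass (zero_add 1) :=
      (congrArg (fun t => Ext.comp t (Ext.mk₀ (adj.counit.app S.X₁)) (add_zero 1)) (Ext.mapExactFunctor_extClass L hS')).trans
        (ShortComplex.ShortExact.extClass_naturality (hS'.map_of_exact L) hS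
          ({ τ₁ := adj.counit.app S.X₁, τ₂ := adj.counit.app S.X₂, τ₃ := adj.counit.app S.X₃
             comm₁₂ := (adj.counit.naturality S.f).symm, comm₂₃ := (adj.counit.naturality S.g).symm } :
            (S.map R).map L ⟶ S))
    have inj : ∀ q, Function.Injective (hof adj i S.X₃ q) → Function.Injective (hof adj i F (q + 1)) := by
      intro q hq
      refine injective_of_hof_eq_zero adj i fun x hx => ?_
      obtain ⟨y, rfl⟩ : ∃ y : Ext.{w} ZB (R.obj S.X₃) q, y.comp e' rfl = x :=
        haveI : Injective (S.map R).X₂ := ‹Injective (R.obj S.X₂)›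
        Ext.covariant_sequence_exact₁ ZB hS' x (Ext.eq_zero_of_injective _) rfl
      have hx' : (hof adj i S.X₃ q y).comp hS.extClass rfl = 0 := (hof_comp adj i q y e' hS.extClass hn).symm.trans hx
      obtain ⟨z, hz⟩ := Ext.covariant_sequence_exact₃ ZA hS (hof adj i S.X₃ q y) (n₁ := q + 1) rfl hx'
      obtain ⟨z', hz'⟩ := (hof_bijective adj i hi q S.X₂ (TriCat.isRightAcyclic_of_injective _)).2 z
      have hy' : y = z'.comp (Ext.mk₀ (R.map S.g)) (add_zero q) :=
        hq ((hz.symm.trans (congrArg (fun t => Ext.comp t (Ext.mk₀ S.g) (add_zero q)) hz'.symm)).trans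
          (hof_natural adj i S.g q z').symm)
      have h0 : (Ext.mk₀ (R.map S.g)).comp e' (zero_add 1) = 0 := hS'.comp_extClass
      rw [hy', Ext.comp_assoc_of_second_deg_zero, h0, Ext.comp_zero]
    refine ⟨⟨inj p hG.1.1, fun z => ?_⟩, inj (p + 1) hG.2⟩
    obtain ⟨y, hy⟩ : ∃ y : Ext.{w} ZA S.X₃ p, y.comp hS.extClass rfl = z :=
      Ext.covariant_sequence_exact₁ ZA hS z (Ext.eq_zero_of_injective _) rfl
    obtain ⟨y', hy'⟩ := hG.1.2 y
    exact ⟨y'.comp e' rfl, (hof_comp adj i p y' e' hS.extClass hn).trans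
      ((congrArg (fun t => Ext.comp t hS.extClass rfl) hy').trans hy)⟩

end Abstract

section Etale

open AlgebraicGeometry Opposite

universe z

set_option backward.isDefEq.respectTransparency.types false

/-- If the first `n` higher direct images vanish, `H^q(Y, f_* F) → H^q(X, F)` is bijective up to degree `n`
and injective in degree `n + 1`. -/
theorem hofPush_edge {X Y : Scheme.{z}} (f : X ⟶ Y)
    [PreservesFiniteLimits (EtCoh.pull f)] (F : EtCoh.Ab X) (n : ℕ)
    (hR : ∀ q : ℕ, 0 < q → q ≤ n → IsZero ((EtCoh.Rpush f q).obj F)) :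
    (∀ q ≤ n, Function.Bijective (EtLim.HofPush f F q)) ∧
      Function.Injective (EtLim.HofPush f F (n + 1)) := by
  haveI : (EtCoh.pull f).IsLeftAdjoint := (EtCoh.pullPushAdj f).isLeftAdjoint
  haveI : (EtCoh.push f).IsRightAdjoint := (EtCoh.pullPushAdj f).isRightAdjoint
  haveI : (EtCoh.pull f).Additive := (EtCoh.pullPushAdj f).left_adjoint_additive
  have h := fun p hp => hof_edge (EtCoh.pullPushAdj f) (EtCore.pullConst f ℤ).inv inferInstance p F
    (fun j hj hjp => hR j hj (le_trans hjp hp))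
  have e : ∀ q, ⇑(EtLim.HofPush f F q) =
      BigSiteLib.HofBij.hof (EtCoh.pullPushAdj f) (EtCore.pullConst f ℤ).inv F q := fun q => funext fun x => rfl
  exact ⟨fun q hq => (e q).symm ▸ (h q hq).1, (e (n + 1)).symm ▸ (h n le_rfl).2⟩

end Etale

end Groth.Agent.EtBCA
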