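import Groth.Agent.EtBCA.BCCoh
import Groth.Agent.EtBCA.PullId
import Groth.Agent.EtBCA.PushTorsion
import Groth.Agent.EtBCA.Edge
import Groth.Prelude.Def_EtBC2

/-!
# The comparison condition is inherited through base change
-/

set_option autoImplicit false
set_option linter.style.haveILetI false

universe u

open CategoryTheory CategoryTheory.Limits AlgebraicGeometry Opposite CategoryTheory.Abelian

namespace Groth.Agent.EtBCA

set_option backward.isDefEq.respectTransparency.types false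

variable {X Y Xb Yb : Scheme.{u}} {h : Y ⟶ X} {p : Xb ⟶ X} {hb : Yb ⟶ Xb} {pY : Yb ⟶ Y}

theorem isIso_baseChange0_of_bcQ_zero (w : hb ≫ p = pY ≫ h) [PreservesFiniteLimits (EtCoh.pull hb)]
    (F : EtCoh.Ab Xb) [IsIso (EtBC.bcQ p h pY hb w 0 F)] :
    IsIso (EtCoh.baseChange0 p h pY hb w F) := by
  have : IsIso (EtCoh.baseChange0 p h pY hb w F ≫
      (EtCoh.push pY).toRightDerivedZero.app ((EtCoh.pull hb).obj F)) :=
    EtBC.bcQ_zero_compat p h pY hb w F ▸ inferInstance
  exact IsIso.of_isIso_comp_right _ ((EtCoh.push pY).toRightDerivedZero.app ((EtCoh.pull hb).obj F))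

theorem qcqs_of_spaces (f : X ⟶ Y) [CompactSpace X] [QuasiSeparatedSpace X] [CompactSpace Y]
    [QuasiSeparatedSpace Y] : QuasiCompact f ∧ QuasiSeparated f := by
  exact ⟨inferInstance, inferInstance⟩

theorem comp_square {A B C D : Type*} (a : A → B) (b : B → C) (c : A → D) (d : D → C)
    (h : b ∘ a = d ∘ c) (ha : Function.Bijective a) (hb : Function.Bijective b)
    (hc : Function.Bijective c) : Function.Bijective d := by
  have hd : Function.Bijective (d ∘ c) := h ▸ hb.comp ha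
  exact (Function.Bijective.of_comp_iff d hc).1 hd

variable {L : Set ℕ} {n : ℕ}

variable [PreservesFiniteLimits (EtCoh.pull h)] [PreservesFiniteLimits (EtCoh.pull p)]
  [PreservesFiniteLimits (EtCoh.pull hb)] [PreservesFiniteLimits (EtCoh.pull pY)]

/-- degree zero -/
theorem Hpull_bijective_zero_bc [QuasiCompact p] [QuasiSeparated p] (w : hb ≫ p = pY ≫ h)
    (hh : EtAcyc.CompN h L n) (F : EtCoh.Ab Xb) (hF : EtAcyc.IsLTorsion L F)
    [IsIso (EtBC.bcQ p h pY hb w 0 F)] : Function.Bijective (EtCore.Hpull hb F 0) := by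
  have := isIso_baseChange0_of_bcQ_zero w F
  have hP := (hh _ (isLTorsion_push p hF)).1 0 (Nat.zero_le _)
  have e1 := (hofPush_edge p F 0 fun q hq hq0 => absurd hq0 (by omega)).1 0 le_rfl
  have e2 := (hofPush_edge pY ((EtCoh.pull hb).obj F) 0 fun q hq hq0 => absurd hq0 (by omega)).1 0 le_rfl
  refine comp_square
    (fun x => (EtCoh.HF Y 0).map (EtCoh.baseChange0 p h pY hb w F)
      (EtCore.Hpull h ((EtCoh.push p).obj F) 0 x))
    (EtLim.HofPush pY ((EtCoh.pull hb).obj F) 0) (EtLim.HofPush p F 0) _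
    (funext fun x => HofPush_baseChange0 p h pY hb w F 0 x) ?_ e2 e1
  exact (HF_map_bijective (EtCoh.baseChange0 p h pY hb w F) 0).comp hP

/-- effacing sheaves have no cohomology upstairs in low degrees -/
theorem subsingleton_H_bc [CompactSpace Xb] [QuasiSeparatedSpace Xb] [QuasiCompact p] [QuasiSeparated p]
    (w : hb ≫ p = pY ≫ h) (hh : EtAcyc.CompN h L n) (F : EtCoh.Ab Xb) (hF : EtAcyc.IsLTorsion L F)
    (hFa : QcAcyclic F) (hbc : ∀ i, i ≤ n → IsIso (EtBC.bcQ p h pY hb w i F))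
    (q : ℕ) (hq : 0 < q) (hqn : q ≤ n) :
    Subsingleton (EtCoh.H Yb ((EtCoh.pull hb).obj F) q) := by
  have := hbc 0 (Nat.zero_le _)
  have := isIso_baseChange0_of_bcQ_zero w F
  have hR : ∀ i, 0 < i → i ≤ n → IsZero ((EtCoh.Rpush pY i).obj ((EtCoh.pull hb).obj F)) := fun i hi hin => by
    have := hbc i hin
    exact ((EtCoh.pull h).map_isZero (isRightAcyclic_push p hFa i hi)).of_iso
      (asIso (EtBC.bcQ p h pY hb w i F)).symm
  have := subsingleton_H_of_qcAcyclic hFa q hq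
  have e2 := ((hofPush_edge pY _ n hR).1 q hqn).2
  have e3 := (HF_map_bijective (EtCoh.baseChange0 p h pY hb w F) q).2
  have e4 := ((hh _ (isLTorsion_push p hF)).1 q hqn).2
  refine subsingleton_of_forall_eq 0 fun z => ?_
  obtain ⟨y, rfl⟩ := e2 z
  obtain ⟨x, rfl⟩ := e3 y
  obtain ⟨a, rfl⟩ := e4 x
  refine (HofPush_baseChange0 p h pY hb w F q a).trans ?_
  rw [Subsingleton.elim (EtLim.HofPush p F q a) 0, map_zero]

omit [PreservesFiniteLimits (EtCoh.pull h)] [PreservesFiniteLimits (EtCoh.pull p)]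
  [PreservesFiniteLimits (EtCoh.pull pY)] in
/-- dimension shifting along effacements -/
theorem compN_of_efface
    (h0 : ∀ F : EtCoh.Ab Xb, EtAcyc.IsLTorsion L F → Function.Bijective (EtCore.Hpull hb F 0))
    (heff : ∀ F : EtCoh.Ab Xb, EtAcyc.IsLTorsion L F → ∃ (I : EtCoh.Ab Xb) (u : F ⟶ I), Mono u ∧
      EtAcyc.IsLTorsion L I ∧ (∀ q, 0 < q → Subsingleton (EtCoh.H Xb I q)) ∧
      ∀ q, 0 < q → q ≤ n → Subsingleton (EtCoh.H Yb ((EtCoh.pull hb).obj I) q)) :
    EtAcyc.CompN hb L n := by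
  suffices main : ∀ q, q ≤ n + 1 → ∀ F : EtCoh.Ab Xb, EtAcyc.IsLTorsion L F →
      Function.Injective (EtCore.Hpull hb F q) ∧ (q ≤ n → Function.Surjective (EtCore.Hpull hb F q)) by
    intro F hF _
    exact ⟨fun q hq => ⟨(main q (by omega) F hF).1, (main q (by omega) F hF).2 hq⟩,
      (main _ le_rfl F hF).1⟩
  intro q
  induction q with
  | zero => exact fun _ F hF => ⟨(h0 F hF).1, fun _ => (h0 F hF).2⟩
  | succ q ih =>
    intro hq F hF
    obtain ⟨I, u, hu, hI, hX, hY⟩ := heff F hF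
    let S := ShortComplex.mk u (cokernel.π u) (cokernel.condition u)
    have hS : S.ShortExact := { exact := ShortComplex.exact_of_g_is_cokernel _ (cokernelIsCokernel _) }
    have hS' := hS.map_of_exact (EtCoh.pull hb)
    have hG : EtAcyc.IsLTorsion L S.X₃ := isLTorsion_of_epi (cokernel.π u) hI
    have := hX (q + 1) (by omega)
    obtain ⟨ihi, ihs⟩ := ih (by omega) S.X₃ hG
    refine ⟨(injective_iff_map_eq_zero _).2 fun x hx => ?_, fun hqn z => ?_⟩
    · obtain ⟨y, rfl⟩ : ∃ y : EtCoh.H Xb S.X₃ q, y.comp hS.extClass rfl = x :=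
        Ext.covariant_sequence_exact₁ _ hS x (Subsingleton.elim (α := EtCoh.H Xb I (q + 1)) _ _) rfl
      obtain ⟨z, hz⟩ := Ext.covariant_sequence_exact₃ _ hS' (EtCore.Hpull hb S.X₃ q y) rfl
        ((Hpull_extClass hb hS q y).symm.trans hx)
      obtain ⟨w, rfl⟩ : ∃ w : EtCoh.H Xb I q, EtCore.Hpull hb I q w = z := by
        rcases Nat.eq_zero_or_pos q with rfl | hq0
        · exact (h0 I hI).2 z
        · exact ⟨0, (map_zero _).trans (@Subsingleton.elim _ (hY q hq0 (by omega)) _ _)⟩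
      have hy : y = w.comp (Ext.mk₀ S.g) (add_zero q) := ihi (hz.symm.trans (Hpull_natural hb S.g q w).symm)
      rw [hy, Ext.comp_assoc_of_second_deg_zero, hS.comp_extClass, Ext.comp_zero]
    · have := hY (q + 1) (by omega) hqn
      obtain ⟨c, hc⟩ := Ext.covariant_sequence_exact₁ _ hS' z
        (Subsingleton.elim (α := EtCoh.H Yb ((EtCoh.pull hb).obj I) (q + 1)) _ _) (n₀ := q) rfl
      obtain ⟨d, rfl⟩ := ihs (by omega) c
      exact ⟨d.comp hS.extClass rfl, (Hpull_extClass hb hS q d).trans hc⟩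

theorem compN_baseChange [CompactSpace X] [QuasiSeparatedSpace X] [CompactSpace Xb] [QuasiSeparatedSpace Xb]
    (w : hb ≫ p = pY ≫ h) (hh : EtAcyc.CompN h L n)
    (hbc : ∀ F : EtCoh.Ab Xb, EtAcyc.IsLTorsion L F →
      ∀ i : ℕ, i ≤ n → IsIso (EtBC.bcQ p h pY hb w i F)) : EtAcyc.CompN hb L n := by
  obtain ⟨hp₁, hp₂⟩ := qcqs_of_spaces p
  refine compN_of_efface (fun F hF => ?_) fun F hF => ?_
  · have := hbc F hF 0 (Nat.zero_le _)
    exact Hpull_bijective_zero_bc w hh F hF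
  · obtain ⟨I, u, hu, hI, hIa⟩ := exists_efface (L := L) F hF
    exact ⟨I, u, hu, hI, fun q hq => subsingleton_H_of_qcAcyclic hIa q hq,
      subsingleton_H_bc w hh I hI hIa (hbc I hI)⟩

end Groth.Agent.EtBCA
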