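import Groth.Agent.EtBCA.Chase
import Groth.Agent.EtBCA.CompBC

/-!
# Descending classes in the image of pullback along a surjective base change
-/

set_option autoImplicit false
set_option linter.style.haveILetI false

universe u

open CategoryTheory CategoryTheory.Limits AlgebraicGeometry Opposite CategoryTheory.Abelian

namespace Groth.Agent.EtBCA

theorem natural_shift {C D : Type*} [Category C] [Category D] {F₁ F₂ F₃ F₄ : C ⥤ D} (c : F₁ ≅ F₂)
    (d : F₁ ⟶ F₃) (e : F₃ ⟶ F₄) {A B : C} (v : A ⟶ B) {T : D} (m : F₂.obj B ⟶ T) (k : F₄.obj B ⟶ T)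
    (h : c.hom.app B ≫ m = d.app B ≫ e.app B ≫ k) :
    F₂.map v ≫ m = c.inv.app A ≫ d.app A ≫ e.app A ≫ F₄.map v ≫ k := by
  rw [← cancel_epi (c.hom.app A), Iso.hom_inv_id_app_assoc, ← c.hom.naturality_assoc, h,
    d.naturality_assoc, e.naturality_assoc]

theorem app_pullCongr_rfl {C D : Type*} [Category C] [Category D] {F₁ F₂ : C ⥤ D} (c : F₁ ≅ F₂) (e : F₁ ≅ F₁)
    (he : e = Iso.refl _) (A : C) : ((c.symm ≪≫ e).app A).hom = c.inv.app A := by
  subst he; simp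

set_option backward.isDefEq.respectTransparency.types false

variable {X Y Z Xb Yb : Scheme.{u}} {h : Y ⟶ X} {p : Xb ⟶ X} {hb : Yb ⟶ Xb} {pY : Yb ⟶ Y}
  {L : Set ℕ} {n : ℕ}

theorem HpullVia_def {X' : Scheme.{u}} (f : X' ⟶ X) (t : X ⟶ Z) (f₀ : X' ⟶ Z) (w : f ≫ t = f₀)
    [PreservesFiniteLimits (EtCoh.pull f)] (G : EtCoh.Ab Z) (q : ℕ) (x : EtCoh.H X ((EtCoh.pull t).obj G) q) :
    EtCore.HpullVia f t f₀ w G q x =
      (EtCoh.HF X' q).map (((EtCore.pullComp f t).symm ≪≫ EtCore.pullCongr w).app G).hom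
        (EtCore.Hpull f ((EtCoh.pull t).obj G) q x) := rfl

theorem HofPush_def {X' : Scheme.{u}} (f : X' ⟶ X) [PreservesFiniteLimits (EtCoh.pull f)]
    (G : EtCoh.Ab X') (q : ℕ) (x : EtCoh.H X ((EtCoh.push f).obj G) q) :
    EtLim.HofPush f G q x =
      (EtCoh.HF X' q).map ((EtCoh.pullPushAdj f).counit.app G) (EtCore.Hpull f ((EtCoh.push f).obj G) q x) := rfl

theorem pullCongr_cancel {a b : X ⟶ Z} (w : a = b) (F : EtCoh.Ab Z) :
    (EtCore.pullCongr w).hom.app F ≫ (EtCore.pullCongr w.symm).hom.app F = 𝟙 _ := by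
  subst w; simp [EtCore.pullCongr]

theorem cancel4 {C : Type*} [Category C] {A B D E : C} {c : A ≅ B} {d : A ⟶ D} {d' : D ⟶ A}
    (h : d ≫ d' = 𝟙 A) (k : B ⟶ E) : (c.inv ≫ d) ≫ d' ≫ c.hom ≫ k = k := by
  rw [Category.assoc, reassoc_of% h, Iso.inv_hom_id_assoc]

theorem HF_map3 {A B C D : EtCoh.Ab X} (q : ℕ) (f : A ⟶ B) (g : B ⟶ C) (k : C ⟶ D) (x : EtCoh.H X A q) :
    (EtCoh.HF X q).map k ((EtCoh.HF X q).map g ((EtCoh.HF X q).map f x)) =
      (EtCoh.HF X q).map (f ≫ g ≫ k) x := by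
  rw [Functor.map_comp, Functor.map_comp, ConcreteCategory.comp_apply, ConcreteCategory.comp_apply]

theorem HF_map2 {A B C : EtCoh.Ab X} (q : ℕ) (f : A ⟶ B) (g : B ⟶ C) (x : EtCoh.H X A q) :
    (EtCoh.HF X q).map (f ≫ g) x = (EtCoh.HF X q).map g ((EtCoh.HF X q).map f x) := by
  rw [Functor.map_comp, ConcreteCategory.comp_apply]

variable [PreservesFiniteLimits (EtCoh.pull h)] [PreservesFiniteLimits (EtCoh.pull p)]
  [PreservesFiniteLimits (EtCoh.pull hb)] [PreservesFiniteLimits (EtCoh.pull pY)]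

theorem mem_range_of_descent [CompactSpace X] [QuasiSeparatedSpace X] [CompactSpace Xb]
    [QuasiSeparatedSpace Xb] (w : hb ≫ p = pY ≫ h) (hp : Function.Surjective p.base)
    (hh : EtAcyc.CompN h L n)
    (hbc : ∀ G : EtCoh.Ab Xb, EtAcyc.IsLTorsion L G →
      ∀ i : ℕ, i ≤ n → IsIso (EtBC.bcQ p h pY hb w i G))
    (F : EtCoh.Ab X) (hF : EtAcyc.IsLTorsion L F) (ξ : EtCoh.H Y ((EtCoh.pull h).obj F) (n + 1))
    (a : EtCoh.H Xb ((EtCoh.pull p).obj F) (n + 1))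
    (ha : EtCore.HpullVia hb p (pY ≫ h) w F (n + 1) a =
      EtCore.HpullVia pY h (pY ≫ h) rfl F (n + 1) ξ) :
    ξ ∈ Set.range (EtCore.Hpull h F (n + 1)) := by
  obtain ⟨hp₁, hp₂⟩ := qcqs_of_spaces p
  have : Surjective p := ⟨hp⟩
  have : (EtCoh.pull p).Faithful := EtFound.pullback_faithful (A := AddCommGrpCat.{u + 1}) p
  obtain ⟨I, j, hj, hI, hIa⟩ := exists_efface (L := L) _ (isLTorsion_pull p hF)
  let u := (EtCoh.pullPushAdj p).homEquiv F I j
  have : Mono u := by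
    have : PreservesLimitsOfSize.{0, 0} (EtCoh.push p) := (EtCoh.pullPushAdj p).rightAdjoint_preservesLimits
    show Mono ((EtCoh.pullPushAdj p).homEquiv F I j)
    rw [Adjunction.homEquiv_unit]
    exact mono_comp _ _
  refine mem_range_Hpull_succ_of_mono h hh u (isLTorsion_push p hI) ξ ⟨0, ?_⟩
  have := hbc I hI 0 (Nat.zero_le _)
  have := isIso_baseChange0_of_bcQ_zero w I
  have hR : ∀ i, 0 < i → i ≤ n → IsZero ((EtCoh.Rpush pY i).obj ((EtCoh.pull hb).obj I)) := fun i hi hin => by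
    have := hbc I hI i hin
    exact ((EtCoh.pull h).map_isZero (isRightAcyclic_push p hIa i hi)).of_iso
      (asIso (EtBC.bcQ p h pY hb w i I)).symm
  rw [map_zero]
  apply (HF_map_bijective (EtCoh.baseChange0 p h pY hb w I) (n + 1)).1
  apply (hofPush_edge pY ((EtCoh.pull hb).obj I) n hR).2
  refine ((congrArg (EtLim.HofPush pY _ (n + 1)) (map_zero _)).trans (map_zero _)).trans (Eq.symm ?_)
  let η := EtCore.Hpull pY ((EtCoh.pull h).obj F) (n + 1) ξ
  let γ := EtCore.Hpull hb ((EtCoh.pull p).obj F) (n + 1) a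
  have hm : (EtCoh.pull pY).map ((EtCoh.pull h).map u) ≫
      (EtCoh.pull pY).map (EtCoh.baseChange0 p h pY hb w I) ≫
        (EtCoh.pullPushAdj pY).counit.app ((EtCoh.pull hb).obj I) =
      (((EtCore.pullComp pY h).symm ≪≫ EtCore.pullCongr (Eq.refl (pY ≫ h))).app F).hom ≫
        (EtCore.pullCongr w.symm).hom.app F ≫ (EtCore.pullComp hb p).hom.app F ≫
          (EtCoh.pull hb).map j := by
    have e1 : (EtCoh.pull p).map u ≫ (EtCoh.pullPushAdj p).counit.app I = j :=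
      ((EtCoh.pullPushAdj p).homEquiv_counit F I u).symm.trans
        (((EtCoh.pullPushAdj p).homEquiv F I).symm_apply_apply j)
    conv_rhs => rw [← e1]
    rw [app_pullCongr_rfl (EtCore.pullComp pY h) (EtCore.pullCongr (Eq.refl (pY ≫ h)))
      (by simp [EtCore.pullCongr]) F, Functor.map_comp]
    exact natural_shift (EtCore.pullComp pY h) (EtCore.pullCongr w.symm).hom (EtCore.pullComp hb p).hom u
      _ _ (pullComp_baseChange0 p h pY hb w I)
  have e2 : (((EtCore.pullComp hb p).symm ≪≫ EtCore.pullCongr w).app F).hom ≫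
      (EtCore.pullCongr w.symm).hom.app F ≫ (EtCore.pullComp hb p).hom.app F ≫
        (EtCoh.pull hb).map j = (EtCoh.pull hb).map j :=
    cancel4 (c := (EtCore.pullComp hb p).app F) (pullCongr_cancel w F) _
  let P := (EtCoh.pull pY).map ((EtCoh.pull h).map u)
  let Q := (EtCoh.pull pY).map (EtCoh.baseChange0 p h pY hb w I)
  let R := (EtCoh.pullPushAdj pY).counit.app ((EtCoh.pull hb).obj I)
  let T := (EtCore.pullCongr w.symm).hom.app F ≫ (EtCore.pullComp hb p).hom.app F ≫ (EtCoh.pull hb).map j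
  let K₁ := (((EtCore.pullComp pY h).symm ≪≫ EtCore.pullCongr (Eq.refl (pY ≫ h))).app F).hom
  let K₂ := (((EtCore.pullComp hb p).symm ≪≫ EtCore.pullCongr w).app F).hom
  have s1 : EtCore.Hpull pY _ (n + 1) ((EtCoh.HF Y (n + 1)).map (EtCoh.baseChange0 p h pY hb w I)
      ((EtCoh.HF Y (n + 1)).map ((EtCoh.pull h).map u) ξ)) =
      (EtCoh.HF Yb (n + 1)).map Q ((EtCoh.HF Yb (n + 1)).map P η) :=
    (Hpull_natural pY (EtCoh.baseChange0 p h pY hb w I) (n + 1) _).trans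
      (congrArg (fun z => (EtCoh.HF Yb (n + 1)).map Q z) (Hpull_natural pY _ (n + 1) ξ))
  have s2 : (EtCoh.HF Yb (n + 1)).map (P ≫ Q ≫ R) η = (EtCoh.HF Yb (n + 1)).map (K₁ ≫ T) η :=
    congrArg (fun m => (EtCoh.HF Yb (n + 1)).map m η) hm
  have s3 : (EtCoh.HF Yb (n + 1)).map K₁ η = (EtCoh.HF Yb (n + 1)).map K₂ γ :=
    (HpullVia_def pY h (pY ≫ h) rfl F (n + 1) ξ).symm.trans
      (ha.symm.trans (HpullVia_def hb p (pY ≫ h) w F (n + 1) a))
  have s4 : (EtCoh.HF Yb (n + 1)).map (K₂ ≫ T) γ =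
      (EtCoh.HF Yb (n + 1)).map ((EtCoh.pull hb).map j) γ :=
    congrArg (fun m => (EtCoh.HF Yb (n + 1)).map m γ) e2
  have s5 : (EtCoh.HF Yb (n + 1)).map (P ≫ Q ≫ R) η =
      (EtCoh.HF Yb (n + 1)).map ((EtCoh.pull hb).map j) γ :=
    s2.trans ((HF_map2 (n + 1) K₁ T η).trans
      ((congrArg (fun z => (EtCoh.HF Yb (n + 1)).map T z) s3).trans
        ((HF_map2 (n + 1) K₂ T γ).symm.trans s4)))
  refine Eq.trans (b := (EtCoh.HF Yb (n + 1)).map ((EtCoh.pull hb).map j) γ) ?_ ?_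
  · refine (HofPush_def pY _ (n + 1) _).trans ?_
    exact (congrArg (fun z => (EtCoh.HF Yb (n + 1)).map R z) s1).trans
      ((HF_map3 (n + 1) P Q R η).trans s5)
  refine (Hpull_natural hb j (n + 1) a).symm.trans ?_
  have := subsingleton_H_of_qcAcyclic hIa (n + 1) (Nat.succ_pos n)
  exact (congrArg (EtCore.Hpull hb I (n + 1))
    (@Subsingleton.elim (EtCoh.H Xb I (n + 1)) this _ 0)).trans (map_zero _)

end Groth.Agent.EtBCA
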