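import Groth.Agent.EtBCA.FiveTerm
import Groth.Agent.EtBCA.Comp
import Groth.Agent.EtBCA.Descent
import Groth.Agent.EtBCA.MV.Restrict
import Groth.Agent.EtBCA.BCQ.EtaleBase
import Groth.Agent.BigSiteLib.FlasquePush

/-!
# The comparison condition through units and higher direct images
-/

set_option autoImplicit false
set_option linter.style.haveILetI false

universe u

open CategoryTheory CategoryTheory.Limits AlgebraicGeometry Opposite CategoryTheory.Abelian

noncomputable section

namespace Groth.Agent.EtBCA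

set_option backward.isDefEq.respectTransparency.types false
set_option maxHeartbeats 800000

attribute [local instance] BCQ.pullAdditive BCQ.pullColimits

variable {X Y : Scheme.{u}} {L : Set ℕ} {n : ℕ}

/-- pullback is the edge map after the unit -/
theorem HofPush_unit (f : X ⟶ Y) [PreservesFiniteLimits (EtCoh.pull f)] (F : EtCoh.Ab Y) (q : ℕ) :
    ⇑(EtLim.HofPush f ((EtCoh.pull f).obj F) q) ∘ ⇑((EtCoh.HF Y q).map ((EtCoh.pullPushAdj f).unit.app F)) =
      ⇑(EtCore.Hpull f F q) := by
  funext x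
  refine (HofPush_def f _ q _).trans ((congrArg _ (Hpull_natural f _ q x)).trans ?_)
  refine (HF_map2 q ((EtCoh.pull f).map ((EtCoh.pullPushAdj f).unit.app F))
    ((EtCoh.pullPushAdj f).counit.app ((EtCoh.pull f).obj F)) (EtCore.Hpull f F q x)).symm.trans ?_
  refine (congrArg (fun m => (EtCoh.HF X q).map m (EtCore.Hpull f F q x))
    ((EtCoh.pullPushAdj f).left_triangle_components F)).trans ?_
  exact ConcreteCategory.congr_hom ((EtCoh.HF X q).map_id _) _

/-- the comparison condition gives bijectivity of the unit on sections and injectivity on first cohomology -/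
theorem unit_HF_of_compN (f : X ⟶ Y) (hc : EtAcyc.CompN f L n) (F : EtCoh.Ab Y) (hF : EtAcyc.IsLTorsion L F) :
    Function.Bijective ((EtCoh.HF Y 0).map ((EtCoh.pullPushAdj f).unit.app F)) ∧
      Function.Injective ((EtCoh.HF Y 1).map ((EtCoh.pullPushAdj f).unit.app F)) := by
  have := pullExact f
  obtain ⟨hc1, hc2⟩ := hc F hF
  have e := hofPush_edge f ((EtCoh.pull f).obj F) 0 fun q hq hq0 => absurd hq0 (by omega)
  constructor
  · refine (Function.Bijective.of_comp_iff' (e.1 0 le_rfl) _).1 ?_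
    rw [HofPush_unit]
    exact hc1 0 (Nat.zero_le n)
  · refine Function.Injective.of_comp (f := EtLim.HofPush f ((EtCoh.pull f).obj F) 1) ?_
    rw [HofPush_unit]
    rcases n.eq_zero_or_pos with h | h
    · subst h; exact hc2
    · exact (hc1 1 h).1

/-- sections of the first possibly non-zero higher direct image -/
theorem hom_Rpush_eq_zero_of_compN (f : X ⟶ Y) (hc : EtAcyc.CompN f L n) (F : EtCoh.Ab Y)
    (hF : EtAcyc.IsLTorsion L F) (hu : IsIso ((EtCoh.pullPushAdj f).unit.app F)) (p : ℕ) (hp : p + 1 ≤ n)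
    (hR : ∀ j, 0 < j → j < p + 1 → IsZero ((EtCoh.Rpush f j).obj ((EtCoh.pull f).obj F)))
    (z : EtCoh.const Y ℤ ⟶ (EtCoh.Rpush f (p + 1)).obj ((EtCoh.pull f).obj F)) : z = 0 := by
  have := pullExact f
  haveI : (EtCoh.push f).IsRightAdjoint := (EtCoh.pullPushAdj f).isRightAdjoint
  haveI : (EtCoh.push f).Additive := (EtCoh.pullPushAdj f).right_adjoint_additive
  obtain ⟨hc1, hc2⟩ := hc F hF
  have hb : ∀ q, q ≤ n → Function.Bijective (EtLim.HofPush f ((EtCoh.pull f).obj F) q) := fun q hq => by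
    refine (Function.Bijective.of_comp_iff _ (HF_map_bijective ((EtCoh.pullPushAdj f).unit.app F) q)).1 ?_
    exact Eq.mpr (congrArg Function.Bijective (HofPush_unit f F q)) (hc1 q hq)
  have hi : Function.Injective (EtLim.HofPush f ((EtCoh.pull f).obj F) (n + 1)) := by
    refine (Function.Injective.of_comp_iff' _ (HF_map_bijective ((EtCoh.pullPushAdj f).unit.app F) (n + 1))).1 ?_
    exact Eq.mpr (congrArg Function.Injective (HofPush_unit f F (n + 1))) hc2
  have e : ∀ q, ⇑(EtLim.HofPush f ((EtCoh.pull f).obj F) q) =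
      BigSiteLib.HofBij.hof (EtCoh.pullPushAdj f) (EtCore.pullConst f ℤ).inv ((EtCoh.pull f).obj F) q :=
    fun q => funext fun x => rfl
  refine hom_rightDerived_eq_zero (EtCoh.pullPushAdj f) (EtCore.pullConst f ℤ).inv inferInstance p _ hR
    (e (p + 1) ▸ (hb (p + 1) hp).2) (e (p + 2) ▸ ?_) z
  rcases lt_or_eq_of_le hp with h | h
  · exact (hb (p + 2) h).1
  · subst h; exact hi

/-- a sheaf without sections on etale schemes is zero -/
theorem isZero_of_H_zero (K : EtCoh.Ab Y)
    (h : ∀ W : Y.Etale, Subsingleton (EtCoh.H W.left ((EtCoh.pull W.hom).obj K) 0)) : IsZero K := by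
  have hs : ∀ (W : Y.Etale) (s : EtCoh.sect K W), s = 0 := fun W s => by
    haveI : AlgebraicGeometry.Etale W.hom := W.prop
    haveI := EtFound.jCont W.hom
    let c : (EtShriek.compEtale W.hom).obj (EtCoh.top W.left) ≅ W :=
      MorphismProperty.Over.isoMk (Iso.refl _) (by
        show 𝟙 W.left ≫ W.hom = 𝟙 W.left ≫ W.hom
        rfl)
    let e := ((DualLib.restrPullIso W.hom).hom.app K).hom.app (op (EtCoh.top W.left))
    have he : Function.Injective e := ((ConcreteCategory.isIso_iff_bijective e).1 inferInstance).1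
    have : Subsingleton (EtCoh.sect ((EtCoh.pull W.hom).obj K) (EtCoh.top W.left)) :=
      @Equiv.subsingleton _ _ (Sheaf.H.equiv₀ ((EtCoh.pull W.hom).obj K) (EtFound.topIsTerminal W.left)).symm.toEquiv (h W)
    have h1 : K.obj.map c.hom.op s = 0 := he (Subsingleton.elim _ _)
    have h2 := congrArg (K.obj.map c.inv.op) h1
    rw [← ConcreteCategory.comp_apply, ← Functor.map_comp, ← op_comp, c.inv_hom_id, map_zero] at h2
    exact (ConcreteCategory.congr_hom (K.obj.map_id (op W)) s).symm.trans h2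
  rw [IsZero.iff_id_eq_zero]
  apply Sheaf.hom_ext
  ext W s
  exact hs W.unop s

theorem subsingleton_H_zero_of_hom {G : EtCoh.Ab Y} (h : ∀ z : EtCoh.const Y ℤ ⟶ G, z = 0) :
    Subsingleton (EtCoh.H Y G 0) := by
  refine ⟨fun a b => ?_⟩
  obtain ⟨a', rfl⟩ := (Ext.mk₀_bijective _ _).2 a
  obtain ⟨b', rfl⟩ := (Ext.mk₀_bijective _ _).2 b
  rw [h a', h b']

variable (g : X ⟶ Y)

/-- the projection over an etale scheme over `V` -/
theorem compN_restrict (hg : EtAcyc.IsAcyclicN g L n) (V : Y.Etale) (W : V.left.Etale) :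
    EtAcyc.CompN (pullback.fst W.hom (EtAcyc.prj g V)) L n := by
  have : AlgebraicGeometry.Etale V.hom := V.prop
  have : AlgebraicGeometry.Etale W.hom := W.prop
  let V' : Y.Etale := Scheme.Etale.mk (W.hom ≫ V.hom)
  let c := (IsPullback.of_hasPullback W.hom (EtAcyc.prj g V)).paste_vert (IsPullback.of_hasPullback V.hom g)
  have h := (compN_iso_comp_iff c.isoPullback.hom (EtAcyc.prj g V')).2 (hg V')
  rwa [show c.isoPullback.hom ≫ EtAcyc.prj g V' = pullback.fst W.hom (EtAcyc.prj g V) from
    c.isoPullback_hom_fst] at h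

/-- the unit on an etale scheme is the unit of the restricted sheaf -/
theorem arrow_unit_restrict {Z T : Scheme.{u}} (f : T ⟶ Z) (W : Z.Etale) (F : EtCoh.Ab Z) :
    Nonempty (Arrow.mk ((EtCoh.pull W.hom).map ((EtCoh.pullPushAdj f).unit.app F)) ≅
      Arrow.mk ((EtCoh.pullPushAdj (pullback.fst W.hom f)).unit.app ((EtCoh.pull W.hom).obj F))) := by
  have : AlgebraicGeometry.Etale W.hom := W.prop
  have := EtFound.jCont W.hom
  let c := (IsPullback.of_hasPullback W.hom f).flip
  have : AlgebraicGeometry.Etale (pullback.snd W.hom f) := inferInstance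
  have := EtFound.jCont (pullback.snd W.hom f)
  have hs := MV.sigma_spec W.hom f (pullback.fst W.hom f) (pullback.snd W.hom f) c.w F
  have := BCQ.isIso_baseChange0_etale (g := W.hom) c ((EtCoh.pull f).obj F)
  rw [Adjunction.homEquiv_unit] at hs
  let a := asIso (EtCoh.baseChange0 f W.hom (pullback.fst W.hom f) (pullback.snd W.hom f) c.w
    ((EtCoh.pull f).obj F))
  let s := (EtCoh.push (pullback.fst W.hom f)).mapIso
    ((MV.sigma W.hom f (pullback.fst W.hom f) (pullback.snd W.hom f) c.w).app F)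
  refine ⟨Arrow.isoMk (Iso.refl _) (a ≪≫ s.symm) ?_⟩
  show 𝟙 _ ≫ _ = _ ≫ a.hom ≫ s.inv
  rw [Category.id_comp, ← Category.assoc, Iso.eq_comp_inv]
  exact hs

/-- units of an acyclic morphism are isomorphisms -/
theorem isIso_unit_of_isAcyclicN (hg : EtAcyc.IsAcyclicN g L n) (V : Y.Etale) (F : EtCoh.Ab V.left)
    (hF : EtAcyc.IsLTorsion L F) : IsIso ((EtCoh.pullPushAdj (EtAcyc.prj g V)).unit.app F) := by
  let η := (EtCoh.pullPushAdj (EtAcyc.prj g V)).unit.app F
  have key : ∀ W : V.left.Etale, Function.Bijective ((EtCoh.HF W.left 0).map ((EtCoh.pull W.hom).map η)) ∧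
      Function.Injective ((EtCoh.HF W.left 1).map ((EtCoh.pull W.hom).map η)) := fun W => by
    obtain ⟨e⟩ := arrow_unit_restrict (EtAcyc.prj g V) W F
    have h := unit_HF_of_compN _ (compN_restrict g hg V W) _ (isLTorsion_pull W.hom hF)
    have hc : ∀ q, ⇑((EtCoh.HF W.left q).map ((EtCoh.pull W.hom).map η)) =
        ⇑((EtCoh.HF W.left q).map e.inv.right) ∘
          ⇑((EtCoh.HF W.left q).map ((EtCoh.pullPushAdj (pullback.fst W.hom (EtAcyc.prj g V))).unit.app
            ((EtCoh.pull W.hom).obj F))) ∘ ⇑((EtCoh.HF W.left q).map e.hom.left) := fun q => by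
      have ew : e.hom.left ≫ (EtCoh.pullPushAdj (pullback.fst W.hom (EtAcyc.prj g V))).unit.app
          ((EtCoh.pull W.hom).obj F) = (EtCoh.pull W.hom).map η ≫ e.hom.right := e.hom.w
      have e1 : (e.hom.left ≫ (EtCoh.pullPushAdj (pullback.fst W.hom (EtAcyc.prj g V))).unit.app
          ((EtCoh.pull W.hom).obj F)) ≫ e.inv.right = (EtCoh.pull W.hom).map η := by
        refine (congrArg (· ≫ e.inv.right) ew).trans ((Category.assoc _ _ _).trans ?_)
        exact (congrArg (_ ≫ ·) (congrArg (·.right) e.hom_inv_id)).trans (Category.comp_id _)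
      refine (congrArg (fun m => ⇑((EtCoh.HF W.left q).map m)) e1.symm).trans ?_
      funext x
      exact (HF_map2 q _ _ x).trans (congrArg _ (HF_map2 q _ _ x))
    rw [hc, hc]
    exact ⟨(HF_map_bijective e.inv.right 0).comp (h.1.comp (HF_map_bijective e.hom.left 0)),
      (HF_map_bijective e.inv.right 1).1.comp (h.2.comp (HF_map_bijective e.hom.left 1).1)⟩
  have hm : Mono η := by
    refine Preadditive.mono_of_isZero_kernel _ (isZero_of_H_zero _ fun W => ?_)
    have : AlgebraicGeometry.Etale W.hom := W.prop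
    have := pullExact (W.hom : W.left ⟶ V.left)
    have := pullExact W.hom
    have := Functor.map_mono (EtCoh.pull W.hom) (kernel.ι η)
    refine subsingleton_H_zero_of_hom fun z => ?_
    have h0 : z ≫ (EtCoh.pull W.hom).map (kernel.ι η) = 0 := by
      refine (Ext.mk₀_bijective _ _).1 ((key W).1.1 ?_)
      show (Ext.mk₀ _).comp (Ext.mk₀ _) (add_zero 0) = (Ext.mk₀ _).comp (Ext.mk₀ _) (add_zero 0)
      rw [Ext.mk₀_comp_mk₀, Ext.mk₀_comp_mk₀, Category.assoc, ← Functor.map_comp, kernel.condition,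
        Functor.map_zero, comp_zero, zero_comp]
    rw [← cancel_mono ((EtCoh.pull W.hom).map (kernel.ι η)), h0, zero_comp]
  have he : Epi η := by
    refine Preadditive.epi_of_isZero_cokernel _ (isZero_of_H_zero _ fun W => ?_)
    have : AlgebraicGeometry.Etale W.hom := W.prop
    have := pullExact (W.hom : W.left ⟶ V.left)
    have := pullExact W.hom
    have hS : (ShortComplex.mk η (cokernel.π η) (cokernel.condition η)).ShortExact :=
      { exact := ShortComplex.exact_of_g_is_cokernel _ (cokernelIsCokernel η), mono_f := hm }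
    have := EtFound.jCont W.hom
    have hS' := EtLC12.AffineLocalAcyclic.shortExact_pull (W.hom : W.left ⟶ V.left) hS
    refine subsingleton_of_forall_eq 0 fun x => ?_
    have h1 : x.comp hS'.extClass (zero_add 1) = 0 := (key W).2 (by
      refine Eq.trans ?_ (map_zero _).symm
      show (x.comp hS'.extClass (zero_add 1)).comp (Ext.mk₀ _) (add_zero 1) = 0
      rw [Ext.comp_assoc_of_third_deg_zero]
      exact (congrArg (fun t => x.comp t (zero_add 1)) hS'.extClass_comp).trans (Ext.comp_zero (α := x) (h := zero_add 1) _))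
    obtain ⟨y, hy⟩ := Ext.covariant_sequence_exact₃ _ hS' x (n₁ := 1) (zero_add 1) h1
    obtain ⟨y', rfl⟩ := (key W).1.2 y
    rw [← hy]
    show (y'.comp (Ext.mk₀ _) (add_zero 0)).comp (Ext.mk₀ _) (add_zero 0) = 0
    rw [Ext.comp_assoc_of_third_deg_zero, Ext.mk₀_comp_mk₀]
    refine (congrArg (fun m => y'.comp (Ext.mk₀ m) (add_zero 0)) (((EtCoh.pull W.hom).map_comp η (cokernel.π η)).symm.trans
      ((congrArg (EtCoh.pull W.hom).map (cokernel.condition η)).trans ((EtCoh.pull W.hom).map_zero _ _)))).trans ?_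
    rw [Ext.mk₀_zero, Ext.comp_zero]; rfl
  exact isIso_of_mono_of_epi η

/-- higher direct images of pullbacks along an acyclic morphism vanish -/
theorem isZero_Rpush_of_isAcyclicN (hg : EtAcyc.IsAcyclicN g L n) (V : Y.Etale) (F : EtCoh.Ab V.left)
    (hF : EtAcyc.IsLTorsion L F) :
    ∀ q, 0 < q → q ≤ n →
      IsZero ((EtCoh.Rpush (EtAcyc.prj g V) q).obj ((EtCoh.pull (EtAcyc.prj g V)).obj F)) := by
  intro q
  induction q using Nat.strong_induction_on with
  | _ q ih =>
    intro hq hqn
    obtain ⟨p, rfl⟩ := Nat.exists_eq_add_of_lt hq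
    refine isZero_of_H_zero _ fun W => ?_
    have : AlgebraicGeometry.Etale W.hom := W.prop
    let f := EtAcyc.prj g V
    let fW := pullback.fst W.hom f
    let uW := pullback.snd W.hom f
    let c : IsPullback uW fW f W.hom := (IsPullback.of_hasPullback W.hom f).flip
    have := pullExact uW
    have := pullExact (W.hom : W.left ⟶ V.left)
    have := pullExact W.hom
    let FW := (EtCoh.pull W.hom).obj F
    have hiso : ∀ j, Nonempty ((EtCoh.pull W.hom).obj ((EtCoh.Rpush f j).obj ((EtCoh.pull f).obj F)) ≅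
        (EtCoh.Rpush fW j).obj ((EtCoh.pull fW).obj FW)) := fun j => by
      have := BCQ.isIso_bcQ_etale (g := W.hom) c j ((EtCoh.pull f).obj F)
      exact ⟨asIso (EtBC.bcQ f W.hom fW uW c.w j ((EtCoh.pull f).obj F)) ≪≫
        (EtCoh.Rpush fW j).mapIso ((MV.sigma W.hom f fW uW c.w).app F).symm⟩
    have hu : IsIso ((EtCoh.pullPushAdj fW).unit.app FW) := by
      obtain ⟨e⟩ := arrow_unit_restrict f W F
      have := isIso_unit_of_isAcyclicN g hg V F hF
      exact ((MorphismProperty.isomorphisms _).arrow_mk_iso_iff e).1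
        (inferInstanceAs (IsIso ((EtCoh.pull W.hom).map ((EtCoh.pullPushAdj f).unit.app F))))
    obtain ⟨e⟩ := hiso (0 + p + 1)
    refine subsingleton_H_zero_of_hom fun z => ?_
    have h := hom_Rpush_eq_zero_of_compN fW (compN_restrict g hg V W) FW (isLTorsion_pull W.hom hF) hu
      (0 + p) hqn (fun j hj hjp => ?_) (z ≫ e.hom)
    · rw [← cancel_mono e.hom, h, zero_comp]
    · obtain ⟨e'⟩ := hiso j
      exact IsZero.of_iso (Functor.map_isZero _ (ih j hjp hj (le_trans hjp.le hqn))) e'.symm

/-- the comparison condition from units and vanishing -/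
theorem compN_of_unit_of_isZero (f : X ⟶ Y) (F : EtCoh.Ab Y) [PreservesFiniteLimits (EtCoh.pull f)]
    (hu : IsIso ((EtCoh.pullPushAdj f).unit.app F))
    (hR : ∀ q, 0 < q → q ≤ n → IsZero ((EtCoh.Rpush f q).obj ((EtCoh.pull f).obj F))) :
    (∀ q ≤ n, Function.Bijective (EtCore.Hpull f F q)) ∧ Function.Injective (EtCore.Hpull f F (n + 1)) := by
  obtain ⟨h1, h2⟩ := hofPush_edge f ((EtCoh.pull f).obj F) n hR
  constructor
  · intro q hq
    rw [← HofPush_unit]
    exact (h1 q hq).comp (HF_map_bijective _ q)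
  · rw [← HofPush_unit]
    exact h2.comp (HF_map_bijective _ (n + 1)).1

end Groth.Agent.EtBCA
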