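import Groth.Agent.EtBCA.Hpull
import Groth.Prelude.Def_EtLim

/-!
# Base change of direct images and pullback on cohomology
-/

set_option autoImplicit false
set_option linter.style.haveILetI false

universe u

open CategoryTheory CategoryTheory.Limits AlgebraicGeometry Opposite CategoryTheory.Abelian

namespace Groth.Agent.EtBCA

set_option backward.isDefEq.respectTransparency.types false

variable {X Y Z : Scheme.{u}}

theorem homEquiv_pullComp (f : X ⟶ Y) (g : Y ⟶ Z) (A : EtCoh.Ab Z) (B : EtCoh.Ab X)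
    (k : (EtCoh.pull f).obj ((EtCoh.pull g).obj A) ⟶ B) :
    (EtCoh.pullPushAdj (f ≫ g)).homEquiv A B ((EtCore.pullComp f g).hom.app A ≫ k) =
      (EtCoh.pullPushAdj g).homEquiv _ _ ((EtCoh.pullPushAdj f).homEquiv _ _ k) ≫
        (EtCoh.pushComp g f).hom.app B := by
  rw [Adjunction.homEquiv_naturality_right]
  dsimp only [EtCore.pullComp]
  rw [Adjunction.homEquiv_leftAdjointUniq_hom_app, ← Adjunction.homEquiv_unit]
  simp [Adjunction.ofNatIsoRight, Adjunction.homEquiv_unit]
  exact congrArg _ (congrArg _ ((EtCoh.pushComp g f).hom.naturality k).symm)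

theorem pushCongr_refl (f : X ⟶ Y) : EtCoh.pushCongr (Eq.refl f) = Iso.refl _ := by
  ext F : 3
  apply ObjectProperty.hom_ext
  apply NatTrans.ext
  funext U
  show F.obj.map _ = 𝟙 _
  refine (congrArg F.obj.map (?_ : _ = 𝟙 _)).trans (F.obj.map_id _)
  apply Quiver.Hom.unop_inj
  apply MorphismProperty.Over.Hom.ext
  apply pullback.hom_ext <;> simp [MorphismProperty.Over.pullbackCongr] <;> rfl

theorem homEquiv_pullCongr {a b : X ⟶ Y} (h : a = b) (A : EtCoh.Ab Y) (B : EtCoh.Ab X)
    (x : (EtCoh.pull a).obj A ⟶ B) :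
    (EtCoh.pullPushAdj b).homEquiv A B ((EtCore.pullCongr h.symm).hom.app A ≫ x) =
      (EtCoh.pullPushAdj a).homEquiv A B x ≫ (EtCoh.pushCongr h).hom.app B := by
  subst h
  rw [pushCongr_refl, Iso.refl_hom, NatTrans.id_app, Category.comp_id]
  simp [EtCore.pullCongr]

/-- the two ways from the inverse image of a direct image back to the sheaf -/
theorem pullComp_baseChange0 {X S X' S' : Scheme.{u}} (f : X ⟶ S) (g : S' ⟶ S) (f' : X' ⟶ S')
    (g' : X' ⟶ X) (w : g' ≫ f = f' ≫ g) (G : EtCoh.Ab X) :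
    (EtCore.pullComp f' g).hom.app ((EtCoh.push f).obj G) ≫
        (EtCoh.pull f').map (EtCoh.baseChange0 f g f' g' w G) ≫
          (EtCoh.pullPushAdj f').counit.app ((EtCoh.pull g').obj G) =
      (EtCore.pullCongr w.symm).hom.app ((EtCoh.push f).obj G) ≫
        (EtCore.pullComp g' f).hom.app ((EtCoh.push f).obj G) ≫
          (EtCoh.pull g').map ((EtCoh.pullPushAdj f).counit.app G) := by
  apply ((EtCoh.pullPushAdj (f' ≫ g)).homEquiv _ ((EtCoh.pull g').obj G)).injective
  rw [homEquiv_pullComp, homEquiv_pullCongr w, homEquiv_pullComp]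
  have e1 : (EtCoh.pullPushAdj f').homEquiv _ ((EtCoh.pull g').obj G)
      ((EtCoh.pull f').map (EtCoh.baseChange0 f g f' g' w G) ≫
        (EtCoh.pullPushAdj f').counit.app ((EtCoh.pull g').obj G)) =
      EtCoh.baseChange0 f g f' g' w G := by
    rw [← Adjunction.homEquiv_counit, Equiv.apply_symm_apply]
  have e2 : (EtCoh.pullPushAdj f).homEquiv _ _ ((EtCoh.pullPushAdj g').homEquiv _ ((EtCoh.pull g').obj G)
      ((EtCoh.pull g').map ((EtCoh.pullPushAdj f).counit.app G))) =
      (EtCoh.push f).map ((EtCoh.pullPushAdj g').unit.app G) := by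
    rw [Adjunction.homEquiv_unit (EtCoh.pullPushAdj g'), Adjunction.unit_naturality,
      Adjunction.homEquiv_naturality_right, Adjunction.homEquiv_unit (EtCoh.pullPushAdj f),
      Adjunction.right_triangle_components, Category.id_comp]

  rw [e1, e2, EtCoh.baseChange0, Equiv.apply_symm_apply]
  simp only [Category.assoc, Iso.inv_hom_id_app, Functor.comp_obj]
  exact congrArg _ (congrArg _ (Category.comp_id _))

theorem Hpull_congr {a b : X ⟶ Y} (h : a = b) [PreservesFiniteLimits (EtCoh.pull a)]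
    [PreservesFiniteLimits (EtCoh.pull b)] (G : EtCoh.Ab Y) (n : ℕ) (x : EtCoh.H Y G n) :
    (EtCoh.HF X n).map ((EtCore.pullCongr h).hom.app G) (EtCore.Hpull a G n x) =
      EtCore.Hpull b G n x := by
  subst h
  rw [HF_map_apply]
  simp [EtCore.pullCongr]

/-- Edge maps and pullback on cohomology commute with base change. -/
theorem HofPush_baseChange0 {X S X' S' : Scheme.{u}} (f : X ⟶ S) (g : S' ⟶ S) (f' : X' ⟶ S')
    (g' : X' ⟶ X) (w : g' ≫ f = f' ≫ g) [PreservesFiniteLimits (EtCoh.pull f)]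
    [PreservesFiniteLimits (EtCoh.pull g)] [PreservesFiniteLimits (EtCoh.pull f')]
    [PreservesFiniteLimits (EtCoh.pull g')] (G : EtCoh.Ab X) (n : ℕ)
    (x : EtCoh.H S ((EtCoh.push f).obj G) n) :
    EtLim.HofPush f' ((EtCoh.pull g').obj G) n
        ((EtCoh.HF S' n).map (EtCoh.baseChange0 f g f' g' w G)
          (EtCore.Hpull g ((EtCoh.push f).obj G) n x)) =
      EtCore.Hpull g' G n (EtLim.HofPush f G n x) := by
  haveI := pullExact (f' ≫ g)
  haveI := pullExact (g' ≫ f)
  have key := congrArg (fun m => (EtCoh.HF X' n).map m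
    (EtCore.Hpull (f' ≫ g) ((EtCoh.push f).obj G) n x)) (pullComp_baseChange0 f g f' g' w G)
  simp only [Functor.map_comp, ConcreteCategory.comp_apply] at key
  rw [Hpull_comp f' g, Hpull_congr w.symm, Hpull_comp g' f, ← Hpull_natural, ← Hpull_natural] at key
  exact key

end Groth.Agent.EtBCA
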