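import Groth.Agent.BigSiteLib.FlasquePush
import Groth.Agent.EtFound.CoprodSections
import Groth.Agent.EtFound.Detect
import Groth.Prelude.Def_EtAcyc
import Mathlib.AlgebraicGeometry.Morphisms.FlatMono
import Mathlib.AlgebraicGeometry.Limits

/-!
# The disjoint union of geometric points

Every abelian sheaf on a disjoint union of separably closed points is flabby, hence so is its direct
image.
-/

set_option autoImplicit false

universe u

open CategoryTheory CategoryTheory.Limits AlgebraicGeometry Opposite

namespace Groth.Agent.EtBCA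

set_option backward.isDefEq.respectTransparency.types false

variable (X : Scheme.{u})

/-- a separably closed field over the residue field of each point -/
noncomputable abbrev ptField (x : X) : Type u := SeparableClosure (X.residueField x)

/-- the disjoint union of geometric points of `X`, one over each point -/
noncomputable def pts : Scheme.{u} := ∐ fun x : X => Spec (CommRingCat.of (ptField X x))

/-- the inclusion of one of the points -/
noncomputable def ptsι (x : X) : Spec (CommRingCat.of (ptField X x)) ⟶ pts X :=
  Sigma.ι (fun x : X => Spec (CommRingCat.of (ptField X x))) x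

/-- the map to `X` -/
noncomputable def ptsMap : pts X ⟶ X :=
  Sigma.desc (f := fun x : X => Spec (CommRingCat.of (ptField X x))) fun x =>
    EtAcyc.geomPt X x (ptField X x)

instance isOpenImmersion_ptsι (x : X) : IsOpenImmersion (ptsι X x) := by
  delta ptsι pts; infer_instance

theorem exists_ptsι_eq (p : pts X) :
    ∃ x, (ptsι X x).base (default : Spec (CommRingCat.of (ptField X x))) = p := by
  let c := sigmaOpenCover (fun x : X => Spec (CommRingCat.of (ptField X x)))
  obtain ⟨y, hy⟩ := c.covers p
  refine ⟨c.idx p, ?_⟩
  refine (congrArg (ptsι X (c.idx p)).base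
    (Subsingleton.elim (α := Spec (CommRingCat.of (ptField X (c.idx p)))) default y)).trans ?_
  exact hy

instance surjective_ptsMap : Surjective (ptsMap X) := by
  refine ⟨fun x => ⟨(ptsι X x).base default, ?_⟩⟩
  rw [← Scheme.Hom.comp_apply,
    show ptsι X x ≫ ptsMap X = EtAcyc.geomPt X x (ptField X x) from Sigma.ι_desc _ _]
  exact (Scheme.Hom.comp_apply _ _ _).trans (Scheme.fromSpecResidueField_apply x _)

theorem ptsMap_unit_mono (F : EtCoh.Ab X) : Mono ((EtCoh.pullPushAdj (ptsMap X)).unit.app F) :=
  have : (EtCoh.pull (ptsMap X)).Faithful := EtFound.pullback_faithful (A := AddCommGrpCat.{u + 1}) (ptsMap X)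
  inferInstance

variable {X}

/-- the points of an etale scheme over the disjoint union of points are clopen separably closed points -/
theorem exists_point_open (T : (pts X).Etale) (w : T.left) :
    ∃ (x : X) (t : Scheme.Etale.mk (ptsι X x) ⟶ T), Mono t ∧ Set.range t.left.base = {w} := by
  obtain ⟨x, hx⟩ := exists_ptsι_eq X (T.hom.base w)
  have : AlgebraicGeometry.Etale T.hom := T.prop
  obtain ⟨l, hl, hlw⟩ := Scheme.exists_fac_of_etale_of_isSepClosed T.hom (ptsι X x) w hx.symm
  let O : (pts X).Etale := Scheme.Etale.mk (ptsι X x)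
  let t : O ⟶ T := MorphismProperty.Over.homMk l hl
  have : AlgebraicGeometry.Etale t.left := EtFound.etale_left t
  have hm : Mono t.left := by
    have : Mono (t.left ≫ T.hom) := by
      rw [show t.left ≫ T.hom = ptsι X x from hl]; exact inferInstanceAs (Mono (ptsι X x))
    exact mono_of_mono t.left T.hom
  refine ⟨x, t, ⟨fun a b h => MorphismProperty.Over.Hom.ext ?_⟩, ?_⟩
  · exact (cancel_mono t.left).1 (congrArg (fun m => m.left) h)
  · refine Set.eq_singleton_iff_unique_mem.2 ⟨⟨(default : Spec (CommRingCat.of (ptField X x))), hlw⟩, ?_⟩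
    rintro _ ⟨z, rfl⟩
    exact (congrArg t.left.base (Subsingleton.elim (α := Spec (CommRingCat.of (ptField X x))) z default)).trans hlw

/-- on a disjoint union of separably closed points, taking sections is exact -/
theorem sections_surjective_pts {A B : EtCoh.Ab (pts X)} (φ : A ⟶ B) [Epi φ] (T : (pts X).Etale) :
    Function.Surjective (φ.hom.app (op T)).hom := by
  intro s
  have hl : Sheaf.IsLocallySurjective φ := (Sheaf.isLocallySurjective_iff_epi' _ φ).2 inferInstance
  have hc := (EtFound.mem_topology_iff _).1 (hl.imageSieve_mem (U := T) s)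
  choose xw t hm hr using exists_point_open (X := X) T
  let O : T.left → (pts X).Etale := fun w => Scheme.Etale.mk (ptsι X (xw w))
  have hlift : ∀ w : T.left, ∃ a : A.obj.obj (op (O w)), φ.hom.app _ a = B.obj.map (t w).op s := by
    intro w
    obtain ⟨V, g, v, ⟨b, hb⟩, hv⟩ := hc w
    have : AlgebraicGeometry.Etale g.left := EtFound.etale_left g
    let ξ : Spec (CommRingCat.of (ptField X (xw w))) ⟶ T.left := (t w).left
    have hξ : g.left.base v = ξ.base default := by
      rw [hv]
      have : ξ.base default ∈ ({w} : Set T.left) :=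
        hr w ▸ ⟨(default : Spec (CommRingCat.of (ptField X (xw w)))), rfl⟩
      exact (Set.mem_singleton_iff.1 this).symm
    obtain ⟨l, hl, -⟩ := Scheme.exists_fac_of_etale_of_isSepClosed g.left ξ v hξ
    let k : O w ⟶ V := MorphismProperty.Over.homMk l
      ((congrArg (l ≫ ·) (MorphismProperty.Over.w g).symm).trans
        (((Category.assoc _ _ _).symm.trans (congrArg (· ≫ T.hom) hl)).trans (MorphismProperty.Over.w (t w))))
    refine ⟨A.obj.map k.op b, ?_⟩
    have hk : k ≫ g = t w := MorphismProperty.Over.Hom.ext hl
    rw [NatTrans.naturality_apply φ.hom k.op b, hb, ← hk, op_comp, Functor.map_comp]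
    rfl
  choose a ha using hlift
  have := hm
  have hdisj : ∀ i j, i ≠ j → ∀ p q, (t i).left.base p ≠ (t j).left.base q := by
    intro i j hij p q h
    have hp : (t i).left.base p ∈ ({i} : Set T.left) := hr i ▸ ⟨p, rfl⟩
    have hq : (t j).left.base q ∈ ({j} : Set T.left) := hr j ▸ ⟨q, rfl⟩
    exact hij ((Set.mem_singleton_iff.1 hp).symm.trans (h.trans (Set.mem_singleton_iff.1 hq)))
  have hcov : ∀ w : T.left, ∃ (i : T.left) (z : (O i).left), (t i).left.base z = w := fun w => by
    obtain ⟨z, hz⟩ : w ∈ Set.range (t w).left.base := by rw [hr w]; rfl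
    exact ⟨w, z, hz⟩
  obtain ⟨s', hs'⟩ := (EtFound.bijective_sections_of_disjoint A O t hcov hdisj).2 a
  refine ⟨s', (EtFound.bijective_sections_of_disjoint B O t hcov hdisj).1 (funext fun w => ?_)⟩
  have h1 : A.obj.map (t w).op s' = a w := congrFun hs' w
  exact ((NatTrans.naturality_apply φ.hom (t w).op s').symm.trans (congrArg _ h1)).trans (ha w)

/-- every abelian sheaf on a disjoint union of separably closed points is flabby -/
theorem flabby_pts (G : EtCoh.Ab (pts X)) : BigSiteLib.Flabby G := by
  suffices ∀ (n : ℕ) (G : EtCoh.Ab (pts X)) (W : (pts X).Etale),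
      Subsingleton (EtCoh.H W.left ((EtCoh.pull W.hom).obj G) (n + 1)) by
    intro W q hq
    obtain ⟨n, rfl⟩ : ∃ n, q = n + 1 := ⟨q - 1, by omega⟩
    exact this n G W
  intro n
  induction n with
  | zero =>
    intro G W
    let Q := Classical.arbitrary (InjectivePresentation G)
    have hE := Q.shortExact_shortComplex
    have : Injective Q.shortComplex.X₂ := Q.injective
    have := hE.epi_g
    exact BigSiteLib.subsingleton_H1_of_surjective hE W
      (BigSiteLib.flabby_injective Q.shortComplex.X₂ W 1 one_pos) (sections_surjective_pts _ W)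
  | succ n ih =>
    intro G W
    let Q := Classical.arbitrary (InjectivePresentation G)
    have hE := Q.shortExact_shortComplex
    have : Injective Q.shortComplex.X₂ := Q.injective
    have : AlgebraicGeometry.Etale W.hom := W.prop
    have := EtFound.jCont W.hom
    have hE' : (Q.shortComplex.map (EtCoh.pull W.hom)).ShortExact :=
      EtLC12.AffineLocalAcyclic.shortExact_pull (W.hom : W.left ⟶ pts X) hE
    have : Subsingleton (Sheaf.H (Q.shortComplex.map (EtCoh.pull W.hom)).X₂ (n + 1)) :=
      BigSiteLib.flabby_injective Q.shortComplex.X₂ W _ (by omega)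
    have : Subsingleton (Sheaf.H (Q.shortComplex.map (EtCoh.pull W.hom)).X₂ (n + 1 + 1)) :=
      BigSiteLib.flabby_injective Q.shortComplex.X₂ W _ (by omega)
    have : Subsingleton (Sheaf.H (Q.shortComplex.map (EtCoh.pull W.hom)).X₃ (n + 1)) := ih _ W
    obtain ⟨e⟩ := Adeq2Lib.ZarCmp.shift _ hE' n
    exact e.symm.toEquiv.subsingleton

/-- the sheaf of stalks at all geometric points -/
theorem flabby_ptsPush (G : EtCoh.Ab (pts X)) :
    BigSiteLib.Flabby ((EtCoh.push (ptsMap X)).obj G) :=
  BigSiteLib.flabby_push _ (flabby_pts G)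

end Groth.Agent.EtBCA
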