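import Groth.Agent.EtBCA.Hpull
import Groth.Agent.EtBCA.Torsion

/-!
# Diagram chases with pullback on cohomology
-/

set_option autoImplicit false
set_option linter.style.haveILetI false

universe u

open CategoryTheory CategoryTheory.Limits AlgebraicGeometry Opposite CategoryTheory.Abelian

namespace Groth.Agent.EtBCA

set_option backward.isDefEq.respectTransparency.types false

variable {X Y : Scheme.{u}} {L : Set ℕ} {n : ℕ}

/-- Classes in the image after a monomorphism are in the image. -/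
theorem mem_range_Hpull_succ_of_mono (h : Y ⟶ X) (hc : EtAcyc.CompN h L n)
    [PreservesFiniteLimits (EtCoh.pull h)] {F G : EtCoh.Ab X} (u : F ⟶ G) [Mono u]
    (hG : EtAcyc.IsLTorsion L G) (ξ : EtCoh.H Y ((EtCoh.pull h).obj F) (n + 1))
    (hξ : (EtCoh.HF Y (n + 1)).map ((EtCoh.pull h).map u) ξ ∈ Set.range (EtCore.Hpull h G (n + 1))) :
    ξ ∈ Set.range (EtCore.Hpull h F (n + 1)) := by
  let S := ShortComplex.mk u (cokernel.π u) (cokernel.condition u)
  have hS : S.ShortExact := { exact := ShortComplex.exact_of_g_is_cokernel _ (cokernelIsCokernel _) }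
  have hQ : EtAcyc.IsLTorsion L S.X₃ := isLTorsion_of_epi (cokernel.π u) hG
  obtain ⟨hb, hi⟩ := hc S.X₃ hQ
  obtain ⟨a, ha⟩ := hξ
  have ha' : EtCore.Hpull h G (n + 1) a = ξ.comp (Ext.mk₀ ((EtCoh.pull h).map u)) (add_zero _) := ha
  have hnat : ∀ {A B : EtCoh.Ab X} (φ : A ⟶ B) (m : ℕ) (x : EtCoh.H X A m),
      EtCore.Hpull h B m (x.comp (Ext.mk₀ φ) (add_zero m)) =
        (EtCore.Hpull h A m x).comp (Ext.mk₀ ((EtCoh.pull h).map φ)) (add_zero m) :=
    fun φ m x => Hpull_natural h φ m x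
  have h1 : a.comp (Ext.mk₀ S.g) (add_zero _) = (0 : EtCoh.H X S.X₃ (n + 1)) := by
    refine hi ((hnat S.g (n + 1) a).trans ?_)
    rw [map_zero, ha', Ext.comp_assoc_of_second_deg_zero, Ext.mk₀_comp_mk₀, ← Functor.map_comp,
      show u ≫ S.g = 0 from cokernel.condition u, Functor.map_zero, Ext.mk₀_zero, Ext.comp_zero]
  obtain ⟨b, hb'⟩ := Ext.covariant_sequence_exact₂ _ hS a h1
  have h2 : (ξ - EtCore.Hpull h F (n + 1) b).comp (Ext.mk₀ ((EtCoh.pull h).map u)) (add_zero _) = 0 := by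
    rw [sub_eq_add_neg, Ext.add_comp, Ext.neg_comp, ← hnat u (n + 1) b, ← sub_eq_add_neg, sub_eq_zero, ← ha']
    exact congrArg _ hb'.symm
  have hS' := hS.map_of_exact (EtCoh.pull h)
  obtain ⟨c, hc'⟩ := Ext.covariant_sequence_exact₁ _ hS' (ξ - EtCore.Hpull h F (n + 1) b) h2
    (n₀ := n) rfl
  obtain ⟨d, rfl⟩ := (hb n le_rfl).2 c
  refine ⟨(show EtCoh.H X F (n + 1) from d.comp hS.extClass rfl) + b, ?_⟩
  rw [map_add, show EtCore.Hpull h F (n + 1) (d.comp hS.extClass rfl) = _ from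
    (Hpull_extClass h hS n d).trans hc', sub_add_cancel]

end Groth.Agent.EtBCA
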