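import Groth.Agent.EtBCA.PullId

/-!
# Flabby sheaves are acyclic for direct image along any morphism
-/

set_option autoImplicit false
set_option linter.style.haveILetI false

universe u

open CategoryTheory CategoryTheory.Limits AlgebraicGeometry Opposite

namespace Groth.Agent.EtBCA

set_option backward.isDefEq.respectTransparency.types false

variable {X Y : Scheme.{u}}

theorem isZero_Rpush_succ_flabby (f : X ⟶ Y) :
    ∀ (n : ℕ) (F : EtCoh.Ab X), BigSiteLib.Flabby F → IsZero ((EtCoh.Rpush f (n + 1)).obj F) := by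
  intro n
  induction n with
  | zero =>
    intro F hF
    let Q := Classical.arbitrary (InjectivePresentation F)
    have hE := Q.shortExact_shortComplex
    have : Injective Q.shortComplex.X₂ := Q.injective
    have := (EtCoh.pullPushAdj f).rightAdjoint_preservesLimits
    have : Epi ((EtCoh.push f).map Q.shortComplex.g) := (BigSiteLib.shortExact_push f hE hF).epi_g
    let := HasDerivedCategory.standard (EtCoh.Ab X)
    let := HasDerivedCategory.standard (EtCoh.Ab Y)
    obtain ⟨δ, w₁, w₂, w₃, -, e₂, e₃⟩ := TriCat.exists_rightDerived_ses (EtCoh.push f) hE 0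
    refine e₃.isZero_X₂ ?_ ((TriCat.isRightAcyclic_of_injective Q.shortComplex.X₂ 1 one_pos).eq_of_tgt _ _)
    have : Epi (((EtCoh.push f).rightDerived 0).map Q.shortComplex.g) :=
      ((MorphismProperty.epimorphisms _).arrow_mk_iso_iff
        (Arrow.isoOfNatIso (EtCoh.push f).rightDerivedZeroIsoSelf (Arrow.mk Q.shortComplex.g))).2 ‹Epi ((EtCoh.push f).map Q.shortComplex.g)›
    exact (cancel_epi (((EtCoh.push f).rightDerived 0).map Q.shortComplex.g)).1 (w₂.trans comp_zero.symm)
  | succ n ih =>
    intro F hF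
    let Q := Classical.arbitrary (InjectivePresentation F)
    have hE := Q.shortExact_shortComplex
    have : Injective Q.shortComplex.X₂ := Q.injective
    let := HasDerivedCategory.standard (EtCoh.Ab X)
    let := HasDerivedCategory.standard (EtCoh.Ab Y)
    obtain ⟨δ, w₁, w₂, w₃, -, -, e₃⟩ := TriCat.exists_rightDerived_ses (EtCoh.push f) hE (n + 1)
    refine e₃.isZero_X₂ ?_ ((TriCat.isRightAcyclic_of_injective Q.shortComplex.X₂ _ (by omega)).eq_of_tgt _ _)
    exact (ih _ (BigSiteLib.flabby_X₃ hE hF)).eq_of_src _ _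

theorem isRightAcyclic_push_flabby (f : X ⟶ Y) {F : EtCoh.Ab X} (hF : BigSiteLib.Flabby F) :
    TriCat.IsRightAcyclic (EtCoh.push f) F := fun i hi => by
  obtain ⟨n, rfl⟩ : ∃ n, i = n + 1 := ⟨i - 1, by omega⟩
  exact isZero_Rpush_succ_flabby f n F hF

theorem subsingleton_H_of_flabby {F : EtCoh.Ab X} (hF : BigSiteLib.Flabby F) (q : ℕ) (hq : 0 < q) :
    Subsingleton (EtCoh.H X F q) := by
  have : Subsingleton ↑((EtCoh.HF X q).obj ((EtCoh.pull (𝟙 X)).obj F)) := hF (EtCoh.top X) q hq
  exact ((EtCoh.HF X q).mapIso ((pullIdIso X).app F).symm).addCommGroupIsoToAddEquiv.toEquiv.subsingleton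

end Groth.Agent.EtBCA
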