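import Groth.Agent.EtBCA.CompBC
import Groth.Agent.EtBCA.FlabbyAcyclic
import Groth.Agent.EtBCA.Efface

/-!
# The comparison condition descends along a surjective morphism
-/

set_option autoImplicit false
set_option linter.style.haveILetI false

universe u

open CategoryTheory CategoryTheory.Limits AlgebraicGeometry Opposite CategoryTheory.Abelian

namespace Groth.Agent.EtBCA

set_option backward.isDefEq.respectTransparency.types false

variable {X Y : Scheme.{u}} (h : Y ⟶ X)

/-- bijectivity of pullback passes to filtered colimits -/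
theorem Hpull_bijective_colimit [CompactSpace X] [QuasiSeparatedSpace X] [CompactSpace Y]
    [QuasiSeparatedSpace Y] [PreservesFiniteLimits (EtCoh.pull h)] {Λ : Type (u + 1)} [SmallCategory Λ]
    [IsFiltered Λ] (D : Λ ⥤ EtCoh.Ab X) (q : ℕ) (hD : ∀ i, Function.Bijective (EtCore.Hpull h (D.obj i) q)) :
    Function.Bijective (EtCore.Hpull h (colimit D) q) := by
  have := EtLC12.QcqsAcyclic.preservesColimitsOfShape_HF X q Λ
  have := EtLC12.QcqsAcyclic.preservesColimitsOfShape_HF Y q Λ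
  have : (EtCoh.pull h).IsLeftAdjoint := (EtCoh.pullPushAdj h).isLeftAdjoint
  have hX := isColimitOfPreserves (EtCoh.HF X q) (colimit.isColimit D)
  have hY := isColimitOfPreserves (EtCoh.pull h ⋙ EtCoh.HF Y q) (colimit.isColimit D)
  refine ⟨(injective_iff_map_eq_zero _).2 fun x hx => ?_, fun y => ?_⟩
  · obtain ⟨i, xi, hxi⟩ := Concrete.isColimit_exists_rep _ hX x
    have e : (EtCoh.HF Y q).map ((EtCoh.pull h).map (colimit.ι D i)) (EtCore.Hpull h (D.obj i) q xi) =
        (EtCoh.HF Y q).map ((EtCoh.pull h).map (colimit.ι D i)) (0 : EtCoh.H Y ((EtCoh.pull h).obj (D.obj i)) q) :=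
      (Hpull_natural h (colimit.ι D i) q xi).symm.trans
        (((congrArg (EtCore.Hpull h (colimit D) q) hxi).trans hx).trans (map_zero _).symm)
    obtain ⟨j, a, b, hab⟩ := (Concrete.isColimit_rep_eq_iff_exists _ hY _ _).1 e
    have e2 : EtCore.Hpull h (D.obj j) q ((EtCoh.HF X q).map (D.map a) xi) = 0 :=
      (Hpull_natural h (D.map a) q xi).trans (hab.trans (map_zero _))
    have e3 : (EtCoh.HF X q).map (D.map a) xi = 0 := (hD j).1 (e2.trans (map_zero _).symm)
    refine hxi.symm.trans ?_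
    refine (ConcreteCategory.congr_hom (((EtCoh.HF X q).mapCocone (colimit.cocone D)).w a) xi).symm.trans ?_
    exact (ConcreteCategory.comp_apply _ _ xi).trans ((congrArg _ e3).trans (map_zero _))
  · obtain ⟨i, yi, hyi⟩ := Concrete.isColimit_exists_rep _ hY y
    obtain ⟨xi, hxi⟩ := (hD i).2 yi
    exact ⟨(EtCoh.HF X q).map (colimit.ι D i) xi,
      (Hpull_natural h (colimit.ι D i) q xi).trans ((congrArg _ hxi).trans hyi)⟩

theorem subsingleton_H_colimit [CompactSpace Y] [QuasiSeparatedSpace Y] {Λ : Type (u + 1)} [SmallCategory Λ]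
    [IsFiltered Λ] (D : Λ ⥤ EtCoh.Ab X) (q : ℕ)
    (hD : ∀ i, Subsingleton (EtCoh.H Y ((EtCoh.pull h).obj (D.obj i)) q)) :
    Subsingleton (EtCoh.H Y ((EtCoh.pull h).obj (colimit D)) q) := by
  have := EtLC12.QcqsAcyclic.preservesColimitsOfShape_HF Y q Λ
  have : (EtCoh.pull h).IsLeftAdjoint := (EtCoh.pullPushAdj h).isLeftAdjoint
  have hY := isColimitOfPreserves (EtCoh.pull h ⋙ EtCoh.HF Y q) (colimit.isColimit D)
  refine subsingleton_of_forall_eq 0 fun x => ?_
  obtain ⟨i, y, hy⟩ := Concrete.isColimit_exists_rep _ hY x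
  refine hy.symm.trans ((congrArg _ (?_ : y = 0)).trans (map_zero _))
  exact @Subsingleton.elim _ (hD i) _ _

variable {h} {Xb Yb : Scheme.{u}} {p : Xb ⟶ X} {hb : Yb ⟶ Xb} {pY : Yb ⟶ Y} {L : Set ℕ} {n : ℕ}
  [PreservesFiniteLimits (EtCoh.pull h)] [PreservesFiniteLimits (EtCoh.pull hb)]

/-- pushforwards of flabby sheaves: degree zero -/
theorem Hpull_bijective_zero_descent (w : hb ≫ p = pY ≫ h) (hhb : EtAcyc.CompN hb L n) (I : EtCoh.Ab Xb)
    (hI : EtAcyc.IsLTorsion L I) [IsIso (EtBC.bcQ p h pY hb w 0 I)] :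
    Function.Bijective (EtCore.Hpull h ((EtCoh.push p).obj I) 0) := by
  have := pullExact p
  have := pullExact pY
  have := isIso_baseChange0_of_bcQ_zero w I
  have e1 := (hofPush_edge p I 0 fun q hq hq0 => absurd hq0 (by omega)).1 0 le_rfl
  have e2 := (hofPush_edge pY ((EtCoh.pull hb).obj I) 0 fun q hq hq0 => absurd hq0 (by omega)).1 0 le_rfl
  have hd := (hhb I hI).1 0 (Nat.zero_le _)
  have hw := (HF_map_bijective (EtCoh.baseChange0 p h pY hb w I) 0)
  let O : EtCoh.H Y ((EtCoh.pull h).obj ((EtCoh.push p).obj I)) 0 → EtCoh.H Yb ((EtCoh.pull hb).obj I) 0 :=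
    fun z => EtLim.HofPush pY ((EtCoh.pull hb).obj I) 0
      ((EtCoh.HF Y 0).map (EtCoh.baseChange0 p h pY hb w I) z)
  have hO : Function.Bijective O := e2.comp hw
  refine (Function.Bijective.of_comp_iff' hO _).1 ?_
  rw [show O ∘ (EtCore.Hpull h ((EtCoh.push p).obj I) 0) =
    EtCore.Hpull hb I 0 ∘ EtLim.HofPush p I 0 from funext fun x => HofPush_baseChange0 p h pY hb w I 0 x]
  exact hd.comp e1

/-- pushforwards of flabby sheaves: positive degrees -/
theorem subsingleton_H_descent (w : hb ≫ p = pY ≫ h) (hn : 1 ≤ n) (hhb : EtAcyc.CompN hb L n)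
    (I : EtCoh.Ab Xb) (hI : EtAcyc.IsLTorsion L I) (hIf : BigSiteLib.Flabby I)
    (hbc : ∀ i : ℕ, i + 1 ≤ n → IsIso (EtBC.bcQ p h pY hb w i I)) (q : ℕ) (hq : 0 < q) (hqn : q ≤ n) :
    Subsingleton (EtCoh.H Y ((EtCoh.pull h).obj ((EtCoh.push p).obj I)) q) := by
  have := pullExact pY
  have := hbc 0 hn
  have := isIso_baseChange0_of_bcQ_zero w I
  have hR : ∀ i, 0 < i → i ≤ n - 1 → IsZero ((EtCoh.Rpush pY i).obj ((EtCoh.pull hb).obj I)) := fun i hi hin => by
    have := hbc i (by omega)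
    exact ((EtCoh.pull h).map_isZero (isRightAcyclic_push_flabby p hIf i hi)).of_iso
      (asIso (EtBC.bcQ p h pY hb w i I)).symm
  obtain ⟨e1, e2⟩ := hofPush_edge pY ((EtCoh.pull hb).obj I) (n - 1) hR
  have hinj : Function.Injective (EtLim.HofPush pY ((EtCoh.pull hb).obj I) q) := by
    rcases Nat.lt_or_ge q n with hlt | hge
    · exact (e1 q (by omega)).1
    · obtain rfl : q = n - 1 + 1 := by omega
      exact e2
  have := subsingleton_H_of_flabby hIf q hq
  have := ((hhb I hI).1 q hqn).2.subsingleton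
  exact ((hinj.comp (HF_map_bijective (EtCoh.baseChange0 p h pY hb w I) q).1)).subsingleton

theorem HF_map2' {A B C : EtCoh.Ab Y} (q : ℕ) (f : A ⟶ B) (g : B ⟶ C) (x : EtCoh.H Y A q) :
    (EtCoh.HF Y q).map g ((EtCoh.HF Y q).map f x) = (EtCoh.HF Y q).map (f ≫ g) x := by
  rw [Functor.map_comp, ConcreteCategory.comp_apply]

theorem compN_descent [CompactSpace X] [QuasiSeparatedSpace X] [CompactSpace Y] [QuasiSeparatedSpace Y]
    (w : hb ≫ p = pY ≫ h) (hp : Function.Surjective p.base) (hn : 1 ≤ n) (hhb : EtAcyc.CompN hb L n)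
    (hbc : ∀ I : EtCoh.Ab Xb, EtAcyc.IsLTorsion L I →
      ∀ i : ℕ, i + 1 ≤ n → IsIso (EtBC.bcQ p h pY hb w i I)) : EtAcyc.CompN h L n := by
  let R := EtCoh.pull p ⋙ EtCoh.pull (ptsMap Xb) ⋙ EtCoh.push (ptsMap Xb) ⋙ EtCoh.push p
  have : (EtCoh.pull p).Additive := (EtCoh.pullPushAdj p).left_adjoint_additive
  have : (EtCoh.push p).Additive := (EtCoh.pullPushAdj p).right_adjoint_additive
  have : (EtCoh.pull (ptsMap Xb)).Additive := (EtCoh.pullPushAdj (ptsMap Xb)).left_adjoint_additive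
  have : (EtCoh.push (ptsMap Xb)).Additive := (EtCoh.pullPushAdj (ptsMap Xb)).right_adjoint_additive
  have : PreservesLimitsOfSize.{0, 0} (EtCoh.push p) := (EtCoh.pullPushAdj p).rightAdjoint_preservesLimits
  have : Surjective p := ⟨hp⟩
  have : (EtCoh.pull p).Faithful := EtFound.pullback_faithful (A := AddCommGrpCat.{u + 1}) p
  have heff : ∀ F : EtCoh.Ab X, EtAcyc.IsLTorsion L F → ∃ (G : EtCoh.Ab X) (u : F ⟶ G), Mono u ∧
      EtAcyc.IsLTorsion L G ∧ (∀ q, 0 < q → Subsingleton (EtCoh.H X G q)) ∧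
      (∀ q, 0 < q → q ≤ n → Subsingleton (EtCoh.H Y ((EtCoh.pull h).obj G) q)) ∧
      Function.Bijective (EtCore.Hpull h G 0) := by
    intro F hF
    let D := torSystem (L := L) F ⋙ R
    let θ : torSystem (L := L) F ⟶ D :=
      { app := fun a => (EtCoh.pullPushAdj p).unit.app _ ≫
          (EtCoh.push p).map ((EtCoh.pullPushAdj (ptsMap Xb)).unit.app _)
        naturality := fun a b g => by
          rw [Category.assoc]
          refine ((EtCoh.pullPushAdj p).unit.naturality_assoc _ _).trans (congrArg (_ ≫ ·) ?_)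
          exact ((EtCoh.push p).map_comp _ _).symm.trans ((congrArg (EtCoh.push p).map
            ((EtCoh.pullPushAdj (ptsMap Xb)).unit.naturality _)).trans ((EtCoh.push p).map_comp _ _)) }
    have : ∀ a, Mono (θ.app a) := fun a => by
      have m1 : ∀ G : EtCoh.Ab X, Mono ((EtCoh.pullPushAdj p).unit.app G) := fun G => inferInstance
      have m2 := ptsMap_unit_mono Xb ((EtCoh.pull p).obj ((torSystem (L := L) F).obj a))
      have m3 : Mono ((EtCoh.push p).map
          ((EtCoh.pullPushAdj (ptsMap Xb)).unit.app ((EtCoh.pull p).obj ((torSystem (L := L) F).obj a)))) :=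
        inferInstance
      exact @mono_comp _ _ _ _ _ _ (m1 ((torSystem (L := L) F).obj a)) _ m3
    have : Mono θ := NatTrans.mono_of_mono_app θ
    have : Mono (colimMap θ) := inferInstanceAs (Mono (colim.map θ))
    let e : colimit (torSystem (L := L) F) ≅ F :=
      @asIso _ _ _ _ (colimit.desc _ (torCocone (L := L) F)) (isIso_torDesc F hF)
    let I := fun a => (EtCoh.push (ptsMap Xb)).obj ((EtCoh.pull (ptsMap Xb)).obj
      ((EtCoh.pull p).obj ((torSystem (L := L) F).obj a)))
    have hI : ∀ a, EtAcyc.IsLTorsion L (I a) := fun a => by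
      refine isLTorsion_of_nsmul_id_eq_zero a.prop ?_
      show a.val • 𝟙 ((EtCoh.pull p ⋙ EtCoh.pull (ptsMap Xb) ⋙ EtCoh.push (ptsMap Xb)).obj
        ((torSystem (L := L) F).obj a)) = 0
      rw [← (EtCoh.pull p ⋙ EtCoh.pull (ptsMap Xb) ⋙ EtCoh.push (ptsMap Xb)).map_id, ← Functor.map_nsmul,
        nsmul_id_torSystem, Functor.map_zero]
    have hIf : ∀ a, BigSiteLib.Flabby (I a) := fun a => flabby_ptsPush _
    refine ⟨colimit D, e.inv ≫ colimMap θ, mono_comp _ _,
      isLTorsion_colimit D fun a => isLTorsion_of_nsmul_id_eq_zero a.prop ?_, ?_, ?_, ?_⟩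
    · show a.val • 𝟙 (R.obj ((torSystem (L := L) F).obj a)) = 0
      rw [← R.map_id, ← Functor.map_nsmul, nsmul_id_torSystem, Functor.map_zero]
    · exact fun q hq => subsingleton_H_of_qcAcyclic
        (qcAcyclic_colimit D fun a => qcAcyclic_of_flabby (BigSiteLib.flabby_push p (hIf a))) q hq
    · exact fun q hq hqn => subsingleton_H_colimit h D q fun a =>
        subsingleton_H_descent w hn hhb (I a) (hI a) (hIf a) (hbc _ (hI a)) q hq hqn
    · exact Hpull_bijective_colimit h D 0 fun a =>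
        have := hbc _ (hI a) 0 hn
        Hpull_bijective_zero_descent w hhb (I a) (hI a)
  have hinj : ∀ F : EtCoh.Ab X, EtAcyc.IsLTorsion L F → Function.Injective (EtCore.Hpull h F 0) := by
    intro F hF
    obtain ⟨G, u, hu, -, -, -, h0⟩ := heff F hF
    refine (injective_iff_map_eq_zero _).2 fun x hx => ?_
    have e : (EtCoh.HF X 0).map u x = 0 := by
      refine h0.1 ((Hpull_natural h u 0 x).trans ?_)
      exact ((congrArg _ hx).trans (map_zero _)).trans (map_zero _).symm
    exact (Ext.postcomp_mk₀_injective_of_mono _ u) (e.trans (map_zero _).symm)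
  refine compN_of_efface (fun F hF => ⟨hinj F hF, fun y => ?_⟩) fun F hF => ?_
  · obtain ⟨G, u, hu, hG, -, -, h0⟩ := heff F hF
    let S := ShortComplex.mk u (cokernel.π u) (cokernel.condition u)
    have hS : S.ShortExact := { exact := ShortComplex.exact_of_g_is_cokernel _ (cokernelIsCokernel _) }
    obtain ⟨x, hx⟩ := h0.2 ((EtCoh.HF Y 0).map ((EtCoh.pull h).map u) y)
    have hQ : EtAcyc.IsLTorsion L S.X₃ := isLTorsion_of_epi (cokernel.π u) hG
    have hz : (EtCoh.HF X 0).map S.g x = 0 := by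
      refine hinj S.X₃ hQ ?_
      refine (Hpull_natural h S.g 0 x).trans ((congrArg _ hx).trans ?_)
      refine (HF_map2' 0 ((EtCoh.pull h).map u) ((EtCoh.pull h).map S.g) y).trans ?_
      rw [← Functor.map_comp, show u ≫ S.g = 0 from cokernel.condition u, Functor.map_zero,
        Functor.map_zero]
      exact (map_zero _).symm
    obtain ⟨x₀, hx₀⟩ := Ext.covariant_sequence_exact₂ _ hS x hz
    refine ⟨x₀, ?_⟩
    have e : (EtCoh.HF Y 0).map ((EtCoh.pull h).map u) (EtCore.Hpull h F 0 x₀) =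
        (EtCoh.HF Y 0).map ((EtCoh.pull h).map u) y :=
      (Hpull_natural h u 0 x₀).symm.trans ((congrArg _ hx₀).trans hx)
    have : Mono ((EtCoh.pull h).map u) := inferInstance
    exact Ext.postcomp_mk₀_injective_of_mono _ ((EtCoh.pull h).map u) e
  · obtain ⟨G, u, hu, hG, hX, hY, -⟩ := heff F hF
    exact ⟨G, u, hu, hG, hX, hY⟩

end Groth.Agent.EtBCA
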