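import Groth.Prelude
import Groth.Agent.EtShriekLib.EtaleTrace
import Groth.Agent.EtMVLib.ExtTools
import Groth.Agent.EtFound.PushExact
import Groth.Agent.EtBCA.Efface
import Mathlib.RingTheory.Etale.Field
import Mathlib.AlgebraicGeometry.Morphisms.FlatRank

/-! The degree of a finite étale morphism is the number of points of its geometric fibres. -/

set_option linter.style.haveILetI false
set_option backward.isDefEq.respectTransparency.types false

universe u

open CategoryTheory CategoryTheory.Limits CategoryTheory.Abelian AlgebraicGeometry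

namespace Groth.Agent.EtBCA

/-- A finite étale scheme over a separably closed field has as many points as its degree. -/
theorem natCard_eq_finrank {k : Type u} [Field k] [IsSepClosed k] {P : Scheme.{u}}
    (q : P ⟶ Spec (CommRingCat.of k)) [IsFinite q] [Etale q] (z : ↥(Spec (CommRingCat.of k))) :
    Nat.card ↥P = q.finrank z := by
  haveI : IsAffine P := isAffine_of_isAffineHom q
  let φ : CommRingCat.of k ⟶ Γ(P, ⊤) := Spec.preimage (P.isoSpec.inv ≫ q)
  have hφ : Spec.map φ = P.isoSpec.inv ≫ q := Spec.map_preimage _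
  haveI : Etale (Spec.map φ) := by rw [hφ]; infer_instance
  haveI : IsFinite (Spec.map φ) := by rw [hφ]; infer_instance
  letI : Algebra k Γ(P, ⊤) := φ.hom.toAlgebra
  haveI : Algebra.Etale k Γ(P, ⊤) := (RingHom.etale_algebraMap).1
    (by rw [RingHom.algebraMap_toAlgebra]; exact (HasRingHomProperty.Spec_iff (P := @Etale)).1 inferInstance)
  haveI : Module.Finite k Γ(P, ⊤) := RingHom.finite_algebraMap.1
    (by rw [RingHom.algebraMap_toAlgebra]; exact (IsFinite.SpecMap_iff _).1 inferInstance)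
  haveI : IsArtinianRing Γ(P, ⊤) := isArtinian_of_tower k inferInstance
  have hsq : IsPullback P.isoSpec.hom q (Spec.map φ) (𝟙 _) :=
    IsPullback.of_horiz_isIso ⟨by rw [hφ, Iso.hom_inv_id_assoc, Category.comp_id]⟩
  rw [Scheme.Hom.finrank_of_isPullback _ _ _ _ hsq z, show φ = CommRingCat.ofHom (algebraMap k Γ(P, ⊤)) from rfl,
    Scheme.Hom.finrank_SpecMap_algebraMap, Module.rankAtStalk_eq_finrank_of_free]
  haveI : Fintype (PrimeSpectrum Γ(P, ⊤)) := Fintype.ofFinite _
  refine Eq.trans ?_ (Nat.cast_id _).symm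
  rw [(Algebra.FormallyEtale.equivPiOfIsSepClosed k Γ(P, ⊤)).toLinearEquiv.finrank_eq,
    Module.finrank_pi, ← Nat.card_eq_fintype_card]
  exact Nat.card_congr (P.isoSpec.hom.homeomorph.toEquiv)

/-- If all geometric fibres of a finite étale morphism have `d` points then it has degree `d`. -/
theorem finrank_eq_of_natCard {X X' : Scheme.{u}} (f : X' ⟶ X) [IsFinite f] [Etale f] (d : ℕ)
    (hd : ∀ (Ω : Type u) [Field Ω] [IsSepClosed Ω] (ξ : Spec (CommRingCat.of Ω) ⟶ X),
      Nat.card ↥(pullback f ξ) = d) (x : X) : f.finrank x = d := by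
  haveI : Flat f := inferInstance
  let Ω := SeparableClosure (X.residueField x)
  let ξ : Spec (CommRingCat.of Ω) ⟶ X :=
    Spec.map (CommRingCat.ofHom (algebraMap (X.residueField x) Ω)) ≫ X.fromSpecResidueField x
  let z : ↥(Spec (CommRingCat.of Ω)) := default
  have h := natCard_eq_finrank (pullback.snd f ξ) z
  rw [hd Ω ξ, Scheme.Hom.finrank_pullback_snd f ξ z] at h
  rw [h]
  refine congrArg f.finrank ?_
  show x = (X.fromSpecResidueField x) ((Spec.map (CommRingCat.ofHom (algebraMap (X.residueField x) Ω))) z)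
  rw [Scheme.fromSpecResidueField_apply]

/-- Multiplication by an integer prime to `L` is bijective on an `L`-torsion sheaf. -/
theorem isIso_nsmul_id_of_isLTorsion {X : Scheme.{u}} {L : Set ℕ} (d : ℕ)
    (hL : ∀ p : ℕ, p.Prime → p ∈ L → ¬ p ∣ d) (F : EtCoh.Ab X) (hF : EtAcyc.IsLTorsion L F) :
    IsIso (d • 𝟙 F) := by
  rw [EtFound.isIso_iff_stalks]
  intro Ω _ _ ξ
  have := stalk_additive ξ
  rw [Functor.map_nsmul, CategoryTheory.Functor.map_id, ConcreteCategory.isIso_iff_bijective]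
  have hm : ∀ t : (EtCoh.stalk ξ).obj F, (d • 𝟙 ((EtCoh.stalk ξ).obj F) : _ ⟶ _) t = d • t :=
    fun t => rfl
  have hco : ∀ m : ℕ, EtAcyc.PrimesIn L m → Nat.Coprime d m := fun m h =>
    Nat.coprime_of_dvd fun p hp h1 h2 => hL p hp (h.2 p hp h2) h1
  refine ⟨fun a b hab => ?_, fun t => ?_⟩
  · rw [hm, hm, ← sub_eq_zero, ← nsmul_sub] at hab
    obtain ⟨m, hm', h0⟩ := (S8525.result L F).1 hF Ω ξ (a - b)
    have h1 := Nat.Coprime.gcd_eq_one (hco m hm')
    have hbz := Nat.gcd_eq_gcd_ab d m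
    rw [h1] at hbz
    have : ((1 : ℕ) : ℤ) • (a - b) = 0 := by
      rw [hbz, add_smul, mul_comm (d : ℤ), mul_comm (m : ℤ), mul_smul, mul_smul, natCast_zsmul,
        natCast_zsmul, hab, h0, smul_zero, smul_zero, add_zero]
    simpa [sub_eq_zero] using this
  · obtain ⟨m, hm', h0⟩ := (S8525.result L F).1 hF Ω ξ t
    have h1 := Nat.Coprime.gcd_eq_one (hco m hm')
    have hbz := Nat.gcd_eq_gcd_ab d m
    rw [h1] at hbz
    refine ⟨d.gcdA m • t, ?_⟩
    rw [hm]
    have : ((1 : ℕ) : ℤ) • t = d • (d.gcdA m • t) := by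
      rw [hbz, add_smul, mul_comm (m : ℤ), mul_smul, mul_smul, natCast_zsmul, natCast_zsmul, h0,
        smul_zero, add_zero]
    simpa using this.symm

/-- Cohomology of an `L`-torsion sheaf vanishes if it vanishes on a finite étale cover of degree
prime to `L`. -/
theorem subsingleton_H_of_degree {X X' : Scheme.{u}} (π : X' ⟶ X) [IsFinite π] [Etale π] (d : ℕ)
    (hd : ∀ x : X, π.finrank x = d) (L : Set ℕ) (hL : ∀ p : ℕ, p.Prime → p ∈ L → ¬ p ∣ d)
    (F : EtCoh.Ab X) (hF : EtAcyc.IsLTorsion L F) (q : ℕ)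
    (h : Subsingleton (EtCoh.H X' ((EtCoh.pull π).obj F) q)) : Subsingleton (EtCoh.H X F q) := by
  haveI : EtShriek.JCont π := EtFound.jCont π
  haveI := EtFound.push_preservesFiniteColimits π
  haveI := EtFound.push_preservesFiniteLimits π
  haveI : (EtCoh.push π).Additive := (EtCoh.pullPushAdj π).right_adjoint_additive
  haveI := EtFound.pull_preservesFiniteLimits π
  haveI : (EtCoh.pull π).PreservesMonomorphisms := inferInstance
  let Z := EtCoh.const X ℤ
  let e : (EtCoh.pull π).obj Z ≅ EtCoh.const X' ℤ := EtCore.pullConst π ℤ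
  have h' : Subsingleton (Ext ((EtCoh.pull π).obj Z) ((EtCoh.pull π).obj F) q) := by
    refine subsingleton_of_forall_eq 0 fun x => ?_
    have h2 : (Ext.mk₀ e.inv).comp x (zero_add q) = 0 :=
      @Subsingleton.elim (EtCoh.H X' ((EtCoh.pull π).obj F) q) h _ _
    rw [← Ext.mk₀_id_comp x, ← e.hom_inv_id, ← Ext.mk₀_comp_mk₀_assoc, h2, Ext.comp_zero]
  have hs : Subsingleton (Ext Z ((EtCoh.push π).obj ((EtCoh.pull π).obj F)) q) :=
    haveI := h'
    (EtMVLib.adjExtMap_bijective (EtCoh.pullPushAdj π) Z ((EtCoh.pull π).obj F) q).2.subsingleton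
  have := isIso_nsmul_id_of_isLTorsion d hL F hF
  refine subsingleton_of_forall_eq 0 fun (x : Ext Z F q) => ?_
  have h1 : x.comp (Ext.mk₀ (d • 𝟙 F)) (add_zero q) = 0 := by
    rw [← EtShriekLib.unit_trace π d hd F, ← Ext.mk₀_comp_mk₀, ← Ext.comp_assoc_of_second_deg_zero,
      hs.elim (x.comp (Ext.mk₀ ((EtCoh.pullPushAdj π).unit.app F)) (add_zero q)) 0, Ext.zero_comp]
  rw [← Ext.comp_mk₀_id x, ← IsIso.hom_inv_id (d • 𝟙 F), ← Ext.mk₀_comp_mk₀,
    ← Ext.comp_assoc_of_second_deg_zero, h1, Ext.zero_comp]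

end Groth.Agent.EtBCA
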