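import Groth.Agent.EtBCA.Edge

/-!
# Global sections of the first non-vanishing higher direct image
-/

set_option autoImplicit false
set_option linter.style.haveILetI false

universe w v v' u u'

open CategoryTheory CategoryTheory.Limits CategoryTheory.Abelian

namespace Groth.Agent.EtBCA

open BigSiteLib.HofBij

variable {A : Type u} [Category.{v} A] [Abelian A] [EnoughInjectives A] [HasExt.{w} A]
  {B : Type u'} [Category.{v'} B] [Abelian B] [HasExt.{w} B]
  {L : B ⥤ A} {R : A ⥤ B} [L.Additive] [R.Additive] [PreservesFiniteLimits L] [PreservesFiniteColimits L]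
  (adj : L ⊣ R) {ZA : A} {ZB : B} (i : ZA ⟶ L.obj ZB)

/-- the bottom degree -/
theorem hom_rightDerived_one_eq_zero (hi : IsIso i) [PreservesFiniteLimits R] (F : A)
    (hs : Function.Surjective (hof adj i F 1)) (hj : Function.Injective (hof adj i F 2))
    (z : ZB ⟶ (R.rightDerived 1).obj F) : z = 0 := by
  let := HasDerivedCategory.standard A
  let := HasDerivedCategory.standard B
  let Q := Classical.arbitrary (InjectivePresentation F)
  have hS := Q.shortExact_shortComplex
  let S := Q.shortComplex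
  haveI : Injective S.X₂ := Q.injective
  haveI : Injective (R.obj S.X₂) := Injective.injective_of_adjoint adj _
  obtain ⟨δ₀, w₁, w₂, w₃, e₁, e₂, e₃⟩ := TriCat.exists_rightDerived_ses R hS 0
  let φ := R.rightDerivedZeroIsoSelf
  let δ : R.obj S.X₃ ⟶ (R.rightDerived 1).obj S.X₁ := φ.inv.app S.X₃ ≫ δ₀
  have wδ : R.map S.g ≫ δ = 0 := by
    refine (Category.assoc _ _ _).symm.trans ((congrArg (· ≫ δ₀) (φ.inv.naturality S.g)).trans ?_)
    refine (Category.assoc _ _ _).trans ((congrArg (_ ≫ ·) w₂).trans comp_zero)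
  have : Epi δ₀ := e₃.epi_f ((TriCat.isRightAcyclic_of_injective S.X₂ 1 one_pos).eq_of_tgt _ _)
  have : Epi δ := epi_comp _ _
  have : Mono S.f := hS.mono_f
  let T := ShortComplex.mk (R.map S.f) (cokernel.π _) (cokernel.condition _)
  have hT : T.ShortExact :=
    { exact := ShortComplex.exact_of_g_is_cokernel _ (cokernelIsCokernel _)
      mono_f := inferInstanceAs (Mono (R.map S.f)) }
  let κ : T.X₃ ⟶ R.obj S.X₃ := cokernel.desc _ (R.map S.g) (S.map R).zero
  have : Mono κ :=
    (ShortComplex.exact_iff_mono_cokernel_desc (S.map R)).1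
      (hS.exact.map_of_mono_of_preservesKernel R hS.mono_f inferInstance)
  have hκg : T.g ≫ κ = R.map S.g := cokernel.π_desc _ _ _
  have hκδ : κ ≫ δ = 0 := by
    rw [← cancel_epi T.g, reassoc_of% hκg, wδ, comp_zero]
  let U := ShortComplex.mk κ δ hκδ
  have hU : U.ShortExact := by
    refine { exact := ?_, mono_f := inferInstanceAs (Mono κ), epi_g := inferInstanceAs (Epi δ) }
    have e : (ShortComplex.mk (R.map S.g) δ wδ).Exact := by
      refine (ShortComplex.exact_iff_of_iso ?_).1 e₂
      exact ShortComplex.isoMk (φ.app _) (φ.app _) (Iso.refl _) (φ.hom.naturality S.g).symm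
        (by simp [δ])
    rw [ShortComplex.exact_iff_exact_up_to_refinements] at e ⊢
    intro W x hx
    obtain ⟨W', π, hπ, y, hy⟩ := e x hx
    exact ⟨W', π, hπ, y ≫ T.g, hy.trans ((congrArg (y ≫ ·) hκg.symm).trans (Category.assoc _ _ _).symm)⟩
  have hn : (hT.extClass.mapExactFunctor L).comp (Ext.mk₀ (adj.counit.app S.X₁)) (add_zero 1) =
      (Ext.mk₀ (L.map κ ≫ adj.counit.app S.X₃)).comp hS.extClass (zero_add 1) :=
    (congrArg (fun t => Ext.comp t (Ext.mk₀ (adj.counit.app S.X₁)) (add_zero 1))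
        (Ext.mapExactFunctor_extClass L hT)).trans
      (ShortComplex.ShortExact.extClass_naturality (hT.map_of_exact L) hS
        ({ τ₁ := adj.counit.app S.X₁, τ₂ := adj.counit.app S.X₂, τ₃ := L.map κ ≫ adj.counit.app S.X₃
           comm₁₂ := (adj.counit.naturality S.f).symm
           comm₂₃ := (adj.counit.naturality S.g).symm.trans (by
            show L.map (R.map S.g) ≫ _ = L.map (cokernel.π _) ≫ L.map κ ≫ _
            rw [← L.map_comp_assoc, cokernel.π_desc]) } : T.map L ⟶ S))
  have key : ∀ (q : ℕ) (y : Ext.{w} ZB T.X₃ q), hof adj i F (q + 1) (y.comp hT.extClass rfl) =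
      (hof adj i S.X₃ q (y.comp (Ext.mk₀ κ) (add_zero q))).comp hS.extClass rfl := fun q y => by
    simp only [hof, Ext.mapExactFunctor_comp, Ext.mapExactFunctor_mk₀, Ext.comp_assoc_of_third_deg_zero,
      Ext.mk₀_comp_mk₀]
    exact (congrArg (fun t => (Ext.mk₀ i).comp ((y.mapExactFunctor L).comp t rfl) (zero_add _)) hn).trans
      (by rw [← Ext.comp_assoc_of_second_deg_zero (y.mapExactFunctor L),
        ← Ext.comp_assoc (Ext.mk₀ i) _ hS.extClass (zero_add q) rfl (by omega)])
  let e₁' := (Ext.mk₀ z).comp hU.extClass (zero_add 1)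
  have he₁ : e₁' = 0 := by
    have h1 : e₁'.comp (Ext.mk₀ κ) (add_zero 1) = 0 := by
      rw [Ext.comp_assoc_of_third_deg_zero]
      exact (congrArg (fun t => (Ext.mk₀ z).comp t (zero_add 1)) hU.extClass_comp).trans (by simp)
    have h2 : hof adj i F 2 (e₁'.comp hT.extClass rfl) = 0 :=
      (key 1 e₁').trans (by rw [h1]; simp [hof])
    have h3 : e₁'.comp hT.extClass rfl = 0 := hj (h2.trans (by simp [hof]))
    obtain ⟨b, hb⟩ := Ext.covariant_sequence_exact₃ ZB hT e₁' (n₁ := 2) rfl h3
    rw [← hb, show b = 0 from Ext.eq_zero_of_injective _, Ext.zero_comp]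
  obtain ⟨z₁, hz₁⟩ := Ext.covariant_sequence_exact₃ ZB hU (Ext.mk₀ z) (n₁ := 1) rfl he₁
  obtain ⟨x, hx⟩ := hs ((hof adj i S.X₃ 0 z₁).comp hS.extClass rfl)
  obtain ⟨a, ha⟩ : ∃ a : Ext.{w} ZB T.X₃ 0, a.comp hT.extClass rfl = x :=
    haveI : Injective T.X₂ := ‹Injective (R.obj S.X₂)›
    Ext.covariant_sequence_exact₁ ZB hT x (Ext.eq_zero_of_injective _) rfl
  let a' : Ext.{w} ZB (R.obj S.X₃) 0 := a.comp (Ext.mk₀ κ) (add_zero 0)
  have h4 : (hof adj i S.X₃ 0 (z₁ - a')).comp hS.extClass (zero_add 1) = 0 := by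
    have e := hof_add adj i S.X₃ 0 (z₁ - a') a'
    rw [sub_add_cancel] at e
    have h5 : (hof adj i S.X₃ 0 z₁).comp hS.extClass (zero_add 1) =
        (hof adj i S.X₃ 0 a').comp hS.extClass (zero_add 1) := by
      refine (hx.symm.trans ((congrArg (hof adj i F 1) ha.symm).trans (key 0 a)))
    rw [e, Ext.add_comp] at h5
    simpa using h5
  obtain ⟨b, hb⟩ := Ext.covariant_sequence_exact₃ ZA hS (hof adj i S.X₃ 0 (z₁ - a')) (n₁ := 1) (zero_add 1) h4
  obtain ⟨b', rfl⟩ := (hof_bijective_zero adj i hi S.X₂).2 b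
  have h6 : z₁ - a' = b'.comp (Ext.mk₀ (R.map S.g)) (add_zero 0) :=
    (hof_bijective_zero adj i hi S.X₃).1 (hb.symm.trans (hof_natural adj i S.g 0 b').symm)
  refine (Ext.mk₀_bijective _ _).1 ?_
  rw [Ext.mk₀_zero, ← hz₁, show z₁ = b'.comp (Ext.mk₀ (R.map S.g)) (add_zero 0) + a' from
    eq_add_of_sub_eq h6, Ext.add_comp, Ext.comp_assoc_of_third_deg_zero, Ext.comp_assoc_of_third_deg_zero,
    Ext.mk₀_comp_mk₀, Ext.mk₀_comp_mk₀, wδ, hκδ, Ext.mk₀_zero]
  simp

/-- the first non-vanishing higher direct image has no sections if the edge maps are bijective and injective -/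
theorem hom_rightDerived_eq_zero (hi : IsIso i) [PreservesFiniteLimits R] :
    ∀ (p : ℕ) (F : A), (∀ j, 0 < j → j < p + 1 → IsZero ((R.rightDerived j).obj F)) →
      Function.Surjective (hof adj i F (p + 1)) → Function.Injective (hof adj i F (p + 2)) →
      ∀ z : ZB ⟶ (R.rightDerived (p + 1)).obj F, z = 0 := by
  intro p
  induction p with
  | zero => exact fun F _ hs hj => hom_rightDerived_one_eq_zero adj i hi F hs hj
  | succ p ih =>
    intro F hF hs hj z
    let := HasDerivedCategory.standard A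
    let := HasDerivedCategory.standard B
    let Q := Classical.arbitrary (InjectivePresentation F)
    have hS := Q.shortExact_shortComplex
    let S := Q.shortComplex
    haveI : Injective S.X₂ := Q.injective
    haveI : Injective (R.obj S.X₂) := Injective.injective_of_adjoint adj _
    have hS' : (S.map R).ShortExact :=
      TriCat.shortExact_map_of_subsingleton hS (hF 1 one_pos (by omega))
    let e' : Ext.{w} (R.obj S.X₃) (R.obj S.X₁) 1 := hS'.extClass
    have hn : (e'.mapExactFunctor L).comp (Ext.mk₀ (adj.counit.app S.X₁)) (add_zero 1) =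
        (Ext.mk₀ (adj.counit.app S.X₃)).comp hS.extClass (zero_add 1) :=
      (congrArg (fun t => Ext.comp t (Ext.mk₀ (adj.counit.app S.X₁)) (add_zero 1)) (Ext.mapExactFunctor_extClass L hS')).trans
        (ShortComplex.ShortExact.extClass_naturality (hS'.map_of_exact L) hS
          ({ τ₁ := adj.counit.app S.X₁, τ₂ := adj.counit.app S.X₂, τ₃ := adj.counit.app S.X₃
             comm₁₂ := (adj.counit.naturality S.f).symm, comm₂₃ := (adj.counit.naturality S.g).symm } :
            (S.map R).map L ⟶ S))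
    have hs' : Function.Surjective (hof adj i S.X₃ (p + 1)) := fun y => by
      obtain ⟨x, hx⟩ := hs (y.comp hS.extClass rfl)
      obtain ⟨y', rfl⟩ : ∃ y' : Ext.{w} ZB (R.obj S.X₃) (p + 1), y'.comp e' rfl = x :=
        haveI : Injective (S.map R).X₂ := ‹Injective (R.obj S.X₂)›
        Ext.covariant_sequence_exact₁ ZB hS' x (Ext.eq_zero_of_injective _) rfl
      have h : (y - hof adj i S.X₃ (p + 1) y').comp hS.extClass rfl = 0 := by
        have e := hx.symm.trans (hof_comp adj i (p + 1) y' e' hS.extClass hn)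
        rw [sub_eq_add_neg, Ext.add_comp, e, Ext.neg_comp, add_neg_cancel]
      obtain ⟨b, hb⟩ := Ext.covariant_sequence_exact₃ ZA hS _ (n₁ := p + 2) rfl h
      rw [show b = 0 from Ext.eq_zero_of_injective _, Ext.zero_comp, eq_comm, sub_eq_zero] at hb
      exact ⟨y', hb.symm⟩
    have hj' : Function.Injective (hof adj i S.X₃ (p + 2)) := by
      refine injective_of_hof_eq_zero adj i fun x hx => ?_
      have h : hof adj i F (p + 3) (x.comp e' rfl) = 0 := by
        rw [hof_comp adj i (p + 2) x e' hS.extClass hn, hx, Ext.zero_comp]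
      have h0 : x.comp e' rfl = 0 := hj (h.trans (by simp [hof]))
      obtain ⟨b, hb⟩ := Ext.covariant_sequence_exact₃ ZB hS' x (n₁ := p + 3) rfl h0
      haveI : Injective (S.map R).X₂ := ‹Injective (R.obj S.X₂)›
      rw [← hb, show b = 0 from Ext.eq_zero_of_injective _, Ext.zero_comp]; rfl
    obtain ⟨δ, w₁, w₂, w₃, -, e₂, e₃⟩ := TriCat.exists_rightDerived_ses R hS (p + 1)
    have : Mono δ := e₂.mono_g ((TriCat.isRightAcyclic_of_injective S.X₂ _ (by omega)).eq_of_src _ _)
    have : Epi δ := e₃.epi_f ((TriCat.isRightAcyclic_of_injective S.X₂ _ (by omega)).eq_of_tgt _ _)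
    have : IsIso δ := isIso_of_mono_of_epi δ
    have h0 := ih S.X₃ (fun j hj hjp => isZero_rightDerived_X₃ hS j hj (hF (j + 1) (by omega) (by omega))) hs' hj'
      (z ≫ inv δ)
    rw [← cancel_mono (inv δ), h0, zero_comp]

end Groth.Agent.EtBCA
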