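import Groth.Agent.EtBCA.Sets
import Groth.Agent.EtFound.PushOutside
import Groth.Agent.EtFound.ConstStalk
import Groth.Prelude.Def_EtAcyc

/-!
# (-1)-acyclic morphisms and surjectivity
-/

set_option autoImplicit false

universe u

open CategoryTheory CategoryTheory.Limits AlgebraicGeometry Opposite

namespace Groth.Agent.EtBCA

set_option backward.isDefEq.respectTransparency.types false

/-- a point in the closure of the image of a quasi-compact morphism is a specialization of an image -/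
theorem exists_specializes_of_mem_closure_image {P : Scheme.{u}} {A : CommRingCat.{u}} (f : P ⟶ Spec A)
    [QuasiCompact f] {Z : Set P} (hZ : IsClosed Z) {y : Spec A} (hy : y ∈ closure (f.base '' Z)) :
    ∃ p ∈ Z, f.base p ⤳ y := by
  obtain ⟨R, π, hπ⟩ := compactSpace_iff_exists.mp (QuasiCompact.compactSpace_of_compactSpace f)
  obtain ⟨φ, hφ⟩ := Spec.map_surjective (π ≫ f)
  obtain ⟨I, hI⟩ := (PrimeSpectrum.isClosed_iff_zeroLocus_ideal (π.base ⁻¹' Z)).mp (hZ.preimage π.continuous)
  have e : ∀ q : Spec R, f.base (π.base q) = PrimeSpectrum.comap φ.hom q := fun q =>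
    (Scheme.Hom.comp_apply π f q).symm.trans (congrArg (fun m : Spec R ⟶ Spec A => m.base q) hφ.symm)
  have hsub : f.base '' Z ⊆ PrimeSpectrum.zeroLocus (I.comap φ.hom : Set A) := by
    rintro _ ⟨p, hp, rfl⟩
    obtain ⟨q, rfl⟩ := hπ p
    rw [e q]
    have : (q : PrimeSpectrum R) ∈ PrimeSpectrum.zeroLocus (I : Set R) := hI.subset hp
    exact fun a ha => this ha
  have hy' : I.comap φ.hom ≤ y.asIdeal :=
    (closure_minimal hsub (PrimeSpectrum.isClosed_zeroLocus _)) hy
  obtain ⟨q, hqI, hq, hqle⟩ := y.asIdeal.exists_ideal_comap_le_prime I hy'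
  refine ⟨π.base ⟨q, hq⟩, ?_, ?_⟩
  · exact hI.symm.subset (show (⟨q, hq⟩ : PrimeSpectrum R) ∈ PrimeSpectrum.zeroLocus (I : Set R) from hqI)
  · rw [e ⟨q, hq⟩]
    exact (PrimeSpectrum.le_iff_specializes _ _).mp hqle

theorem minusOneAcyclic_of_surjective {X Y : Scheme.{u}} (g : X ⟶ Y) [Surjective g] :
    EtAcyc.IsMinusOneAcyclic g := by
  intro V F
  have : Surjective (EtAcyc.prj g V) := MorphismProperty.pullback_fst (P := @Surjective) _ _ ‹_›
  have : (EtDesc.pullSh (EtAcyc.prj g V)).Faithful := EtFound.pullback_faithful (A := Type (u + 1)) _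
  infer_instance

/-- a sheaf with two sections which becomes trivial away from a closed set -/
theorem exists_two_sections {W : Scheme.{u}} {C : Set W} (hC : IsClosed C) {Ω : Type u} [Field Ω]
    [IsSepClosed Ω] (ξ : Spec (CommRingCat.of Ω) ⟶ W) (hξ : Set.range ξ.base ⊆ C) :
    ∃ (F : EtDesc.Sh W) (a b : EtDesc.sect F (EtCoh.top W)), a ≠ b ∧
      ∀ (k : Type u) [Field k] [IsSepClosed k] (η : Spec (CommRingCat.of k) ⟶ W),
        η.base (default : Spec (CommRingCat.of k)) ∉ C →
        Subsingleton ((Scheme.pointSmallEtale η).sheafFiber.obj F) := by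
  let T := Spec (CommRingCat.of Ω)
  let G : EtDesc.Sh T := (constantSheaf T.smallEtaleTopology (Type (u + 1))).obj (ULift.{u + 1} Bool)
  let c : ULift.{u + 1} Bool → EtDesc.sect G (EtCoh.top T) := fun m =>
    (toSheafify T.smallEtaleTopology ((Functor.const T.Etaleᵒᵖ).obj (ULift.{u + 1} Bool))).app (op (EtCoh.top T)) m
  have hc : Function.Injective c := by
    intro m m' h
    let u₀ : (Scheme.pointSmallEtale (𝟙 T)).fiber.obj (EtCoh.top T) :=
      CategoryTheory.Over.homMk (𝟙 T) (Category.comp_id _)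
    exact (EtFound.toSheafify_const_germ_bijective (X := T) (𝟙 T) (Type (u + 1)) (ULift.{u + 1} Bool)
      (EtCoh.top T) u₀).1
      (congrArg (fun z => (Scheme.pointSmallEtale (𝟙 T)).toPresheafFiber (EtCoh.top T) u₀ G.obj z) h)
  obtain ⟨a, ha⟩ := (pushTop_bijective ξ G).2 (c ⟨true⟩)
  obtain ⟨b, hb⟩ := (pushTop_bijective ξ G).2 (c ⟨false⟩)
  refine ⟨(EtDesc.pushSh ξ).obj G, a, b, fun h => ?_, fun k _ _ η hη => ?_⟩
  · subst h
    exact Bool.noConfusion (congrArg ULift.down (hc (ha.symm.trans hb)))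
  · obtain ⟨h⟩ := EtFound.nonempty_unique_stalk (A := Type (u + 1)) hC ((EtDesc.pushSh ξ).obj G) (fun V hV =>
      EtFound.push_unique_of_disjoint (A := Type (u + 1)) ξ G V (hV.mono_right hξ)) η hη
    exact @Unique.instSubsingleton _ h

theorem surjective_of_minusOneAcyclic {X Y : Scheme.{u}} (g : X ⟶ Y) [QuasiCompact g]
    (hg : EtAcyc.IsMinusOneAcyclic g) : Function.Surjective g.base := by
  intro y
  by_contra hy
  obtain ⟨_, ⟨V₀, hV₀, rfl⟩, hyV, -⟩ :=
    Y.isBasis_affineOpens.exists_subset_of_mem_open (Set.mem_univ y) isOpen_univ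
  change Y.Opens at V₀
  change IsAffineOpen V₀ at hV₀
  let V : Y.Etale := Scheme.Etale.mk V₀.ι
  let P := pullback V₀.ι g
  let π : P ⟶ (V₀ : Scheme.{u}) := pullback.fst V₀.ι g
  let ψ := π ≫ hV₀.isoSpec.hom
  have : QuasiCompact π := MorphismProperty.pullback_fst (P := @QuasiCompact) _ _ ‹_›
  let yV : (V₀ : Scheme.{u}) := ⟨y, hyV⟩
  have hyP : ∀ p : P, π.base p ≠ yV := fun p h => hy ⟨(pullback.snd V₀.ι g).base p, by
    refine (Scheme.Hom.comp_apply _ g p).symm.trans ?_
    refine (congrArg (fun m : P ⟶ Y => m.base p) pullback.condition.symm).trans ?_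
    exact (Scheme.Hom.comp_apply _ V₀.ι p).trans (congrArg V₀.ι.base h)⟩
  -- the image of the part over the closure of `y` does not have `y` in its closure
  let Z : Set P := π.base ⁻¹' closure {yV}
  have hcl : yV ∉ closure (π.base '' Z) := by
    intro h
    have h' : hV₀.isoSpec.hom.base yV ∈ closure (ψ.base '' Z) := by
      have h2 := mem_closure_image hV₀.isoSpec.hom.continuous.continuousAt h
      refine closure_mono ?_ h2
      rintro _ ⟨_, ⟨p, hp, rfl⟩, rfl⟩
      exact ⟨p, hp, Scheme.Hom.comp_apply π _ p⟩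
    obtain ⟨p, hp, hs⟩ := exists_specializes_of_mem_closure_image ψ
      (isClosed_closure.preimage π.continuous) h'
    have hs' : π.base p ⤳ yV := by
      have := hs.map hV₀.isoSpec.inv.continuous
      rw [show ψ.base p = hV₀.isoSpec.hom.base (π.base p) from Scheme.Hom.comp_apply _ _ _,
        ← Scheme.Hom.comp_apply, ← Scheme.Hom.comp_apply] at this
      simpa using this
    exact hyP p (hs'.antisymm (specializes_iff_mem_closure.2 hp)).eq
  let W : (V₀ : Scheme.{u}).Opens := ⟨(closure (π.base '' Z))ᶜ, isClosed_closure.isOpen_compl⟩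
  let V' : Y.Etale := Scheme.Etale.mk (W.ι ≫ V₀.ι)
  let yW : (W : Scheme.{u}) := ⟨yV, hcl⟩
  obtain ⟨Ω, _, _, ξ, u₀, hu₀⟩ := EtFound.exists_point_through (EtCoh.top (W : Scheme.{u})) yW
  have hξC : Set.range ξ.base ⊆ (W.ι.base ⁻¹' closure {yV}) := by
    rintro _ ⟨t, rfl⟩
    have e1 : ξ.base t = yW := by
      have := hu₀ t
      have hw : (u₀.left : Spec (CommRingCat.of Ω) ⟶ _) ≫ 𝟙 (W : Scheme.{u}) = ξ := CategoryTheory.Over.w u₀
      exact (congrArg (fun m : Spec (CommRingCat.of Ω) ⟶ (W : Scheme.{u}) => m.base t)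
        (hw.symm.trans (Category.comp_id _))).trans this
    rw [Set.mem_preimage, e1]
    exact subset_closure (Set.mem_singleton yV)
  have hC : IsClosed (W.ι.base ⁻¹' closure {yV}) := isClosed_closure.preimage W.ι.continuous
  obtain ⟨F, a, b, hab, hF⟩ := exists_two_sections hC ξ hξC
  -- the inverse image has subsingleton stalks
  have := hg V' F
  refine hab (sect_injective_of_mono ((EtDesc.adjSh (EtAcyc.prj g V')).unit.app F) _
    ((pushTop_bijective (EtAcyc.prj g V') _).1 ?_))
  refine EtFound.eq_of_cover (A := Type (u + 1)) ((EtDesc.pullSh (EtAcyc.prj g V')).obj F) _ _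
    (EtFound.equalizerSieve_mem_of_germs _ _ _ _ fun k _ _ η v => ?_)
  have hη : (η ≫ EtAcyc.prj g V').base (default : Spec (CommRingCat.of k)) ∉ W.ι.base ⁻¹' closure {yV} := by
    intro h
    let w := (η ≫ EtAcyc.prj g V').base (default : Spec (CommRingCat.of k))
    have hc : ((EtAcyc.prj g V') ≫ W.ι) ≫ V₀.ι = pullback.snd V'.hom g ≫ g :=
      (Category.assoc _ _ _).trans pullback.condition
    let p : P := (pullback.lift (EtAcyc.prj g V' ≫ W.ι) (pullback.snd V'.hom g) hc).base (η.base default)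
    have hp : π.base p = W.ι.base w := by
      refine (Scheme.Hom.comp_apply _ π _).symm.trans ?_
      rw [show pullback.lift (EtAcyc.prj g V' ≫ W.ι) (pullback.snd V'.hom g) hc ≫ π = EtAcyc.prj g V' ≫ W.ι
        from pullback.lift_fst _ _ _]
      exact (Scheme.Hom.comp_apply _ _ _).trans (congrArg W.ι.base (Scheme.Hom.comp_apply _ _ _).symm)
    exact w.2 (Set.mem_of_eq_of_mem hp.symm (subset_closure ⟨p, show π.base p ∈ closure {yV} from Set.mem_of_eq_of_mem hp h, rfl⟩))
  have h1 := hF k (η ≫ EtAcyc.prj g V') hη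
  have : Subsingleton ((Scheme.pointSmallEtale η).sheafFiber.obj ((EtDesc.pullSh (EtAcyc.prj g V')).obj F)) :=
    @Equiv.subsingleton _ _ ((EtFound.sheafFiberPullIso (A := Type (u + 1)) (EtAcyc.prj g V') η).app F).toEquiv h1
  exact @Subsingleton.elim _ this _ _

end Groth.Agent.EtBCA
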