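import Groth.Agent.EtBCA.Sets

/-!
# Descent of bijectivity of pullback of global sections of sheaves of sets
-/

set_option autoImplicit false

universe u

open CategoryTheory CategoryTheory.Limits AlgebraicGeometry Opposite

namespace Groth.Agent.EtBCA

set_option backward.isDefEq.respectTransparency.types false

variable {X Y Xb Yb : Scheme.{u}}

theorem mem_range_secPull_of_mono (h : Y ⟶ X) (hinj : ∀ F : EtDesc.Sh X, Function.Injective (EtDesc.secPull h F))
    {F G : EtDesc.Sh X} (u : F ⟶ G) [Mono u] (ξ : EtDesc.sect ((EtDesc.pullSh h).obj F) (EtCoh.top Y))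
    (hξ : ((EtDesc.pullSh h).map u).hom.app (op (EtCoh.top Y)) ξ ∈ Set.range (EtDesc.secPull h G)) :
    ξ ∈ Set.range (EtDesc.secPull h F) := by
  obtain ⟨t, ht⟩ := hξ
  obtain ⟨s, hs⟩ := exists_preimage_of_mono u (EtCoh.top X) t fun H a b hab => hinj H (by
    rw [← secPull_natural h a t, ← secPull_natural h b t, ht]
    have e := congrArg (EtDesc.pullSh h).map hab
    rw [Functor.map_comp, Functor.map_comp] at e
    exact congr(($e).hom.app (op (EtCoh.top Y)) ξ))
  have := pullSh_map_mono h u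
  refine ⟨s, sect_injective_of_mono ((EtDesc.pullSh h).map u) _ ?_⟩
  rw [secPull_natural, hs, ht]

variable (h : Y ⟶ X) (p : Xb ⟶ X) (hb : Yb ⟶ Xb) (pY : Yb ⟶ Y) (w : hb ≫ p = pY ≫ h) (Fb : EtDesc.Sh Xb)

theorem secPull_injective_of_pullback (hh : Function.Injective (EtDesc.secPull h ((EtDesc.pushSh p).obj Fb)))
    (hbc : Mono (EtBC.baseChange0Sh p h pY hb w Fb)) : Function.Injective (EtDesc.secPull hb Fb) := by
  intro a b hab
  obtain ⟨a', rfl⟩ := (pushTop_bijective p Fb).2 a
  obtain ⟨b', rfl⟩ := (pushTop_bijective p Fb).2 b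
  rw [← pushTop_baseChange0Sh p h pY hb w, ← pushTop_baseChange0Sh p h pY hb w] at hab
  exact congrArg _ (hh (sect_injective_of_mono (EtBC.baseChange0Sh p h pY hb w Fb) _
    ((pushTop_bijective pY _).1 hab)))

theorem secPull_bijective_of_pullback (hh : Function.Bijective (EtDesc.secPull h ((EtDesc.pushSh p).obj Fb)))
    (hbc : IsIso (EtBC.baseChange0Sh p h pY hb w Fb)) : Function.Bijective (EtDesc.secPull hb Fb) := by
  refine ⟨secPull_injective_of_pullback h p hb pY w Fb hh.1 inferInstance, fun z => ?_⟩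
  obtain ⟨z', rfl⟩ := (pushTop_bijective pY _).2 z
  obtain ⟨s, hs⟩ := hh.2 ((inv (EtBC.baseChange0Sh p h pY hb w Fb)).hom.app _ z')
  refine ⟨pushTop p Fb s, ?_⟩
  rw [← pushTop_baseChange0Sh p h pY hb w, hs]
  exact congrArg (pushTop pY _)
    congr(($(IsIso.inv_hom_id (EtBC.baseChange0Sh p h pY hb w Fb))).hom.app (op (EtCoh.top Y)) z')

section descend

variable [Surjective p]

theorem unit_mono_of_surjective (F : EtDesc.Sh X) : Mono ((EtDesc.adjSh p).unit.app F) :=
  have : (EtDesc.pullSh p).Faithful := EtFound.pullback_faithful (A := Type (u + 1)) p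
  inferInstance

include w in
theorem secPull_injective_descend (hhb : ∀ Fb : EtDesc.Sh Xb, Function.Injective (EtDesc.secPull hb Fb))
    (F : EtDesc.Sh X) : Function.Injective (EtDesc.secPull h F) := by
  intro a b hab
  have := unit_mono_of_surjective p F
  apply sect_injective_of_mono ((EtDesc.adjSh p).unit.app F) (EtCoh.top X)
  apply (pushTop_bijective p _).1
  apply hhb
  rw [← pushTop_baseChange0Sh p h pY hb w, ← pushTop_baseChange0Sh p h pY hb w,
    ← secPull_natural, ← secPull_natural]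
  exact congrArg (fun z => pushTop pY _ ((EtBC.baseChange0Sh p h pY hb w _).hom.app _
    (((EtDesc.pullSh h).map ((EtDesc.adjSh p).unit.app F)).hom.app _ z))) hab

include w in
theorem secPull_bijective_descend (hhb : ∀ Fb : EtDesc.Sh Xb, Function.Bijective (EtDesc.secPull hb Fb))
    (hbc : ∀ Fb : EtDesc.Sh Xb, Mono (EtBC.baseChange0Sh p h pY hb w Fb)) (F : EtDesc.Sh X) :
    Function.Bijective (EtDesc.secPull h F) := by
  have hinj := secPull_injective_descend h p hb pY w (fun Fb => (hhb Fb).1)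
  refine ⟨hinj F, fun ξ => ?_⟩
  have := unit_mono_of_surjective p F
  refine mem_range_secPull_of_mono h hinj ((EtDesc.adjSh p).unit.app F) ξ ?_
  let ξ' := ((EtDesc.pullSh h).map ((EtDesc.adjSh p).unit.app F)).hom.app (op (EtCoh.top Y)) ξ
  let M := (EtDesc.pullSh p).obj F
  obtain ⟨z, hz⟩ := (hhb M).2 (pushTop pY _ ((EtBC.baseChange0Sh p h pY hb w M).hom.app _ ξ'))
  obtain ⟨z', rfl⟩ := (pushTop_bijective p M).2 z
  refine ⟨z', ?_⟩
  rw [← pushTop_baseChange0Sh p h pY hb w] at hz
  have := hbc M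
  exact sect_injective_of_mono (EtBC.baseChange0Sh p h pY hb w M) _ ((pushTop_bijective pY _).1 hz)

end descend

end Groth.Agent.EtBCA
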